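import Groth.Agent.PicH1Lib.SqZero
import Groth.Agent.CohGenLib.Pro
import Groth.Agent.CohCmpLib.UnitFibre
import Groth.Agent.CohCmpLib.PullOnComp
import Groth.Agent.CohCmpLib.CanonApps
import Groth.Agent.DevissLib.KilledImm
import Groth.Agent.SweepSix.ConormalSpec
import Groth.Agent.S4666
import Groth.Agent.S0033
import Groth.Agent.S0012
import Groth.Agent.AVIndexLib.Index
import Groth.Agent.ConsLib.ModLoci

/-!
# Ideals of base changes along flat morphisms
-/

set_option autoImplicit false
set_option linter.style.haveILetI false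
universe u

open CategoryTheory CategoryTheory.Limits AlgebraicGeometry TopologicalSpace Opposite
open KFlatLib (pb puSec)

noncomputable section

namespace PicH1Lib

variable {S T : Scheme.{u}} (f : T ⟶ S) [Flat f] (K : S.IdealSheafData)

/-- The ideal, pulled back. -/
def pullIdeal : pb f (ClSub.idealMod K) ⟶ Coh.structureModule T :=
  (Scheme.Modules.pullback f).map (ClSub.idealModι K) ≫ (KFlatLib.pullUnitIso f).hom

instance mono_pullIdeal : Mono (pullIdeal f K) := by
  haveI := CohGenLib.preservesFiniteLimits_pullback_flat f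
  haveI : Mono (ClSub.idealModι K) := inferInstanceAs (Mono (kernel.ι _))
  haveI : Mono ((Scheme.Modules.pullback f).map (ClSub.idealModι K)) := (Scheme.Modules.pullback f).map_mono _
  exact inferInstanceAs (Mono (_ ≫ _))

omit [Flat f] in
theorem pullIdeal_puSec {V : S.Opens} (m : Γ(ClSub.idealMod K, V)) :
    (pullIdeal f K).app (f ⁻¹ᵁ V) (puSec f m) = f.app V (idVal K m) := by
  show (KFlatLib.pullUnitIso f).hom.app (f ⁻¹ᵁ V)
    (((Scheme.Modules.pullback f).map (ClSub.idealModι K)).app (f ⁻¹ᵁ V) (puSec f m)) = _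
  rw [KFlatLib.puSec_natural]
  exact CohCmpLib.pullUnitIso_puSec f _

omit [Flat f] in
theorem pullIdeal_comp : pullIdeal f K ≫ ClSub.toSubscheme (K.comap f) = 0 := by
  refine CohCmpLib.hom_ext_puSec _ _ fun V m => ?_
  show (ClSub.toSubscheme (K.comap f)).app (f ⁻¹ᵁ V) ((pullIdeal f K).app (f ⁻¹ᵁ V) (puSec f m)) = 0
  rw [pullIdeal_puSec]
  have w : (K.comap f).subschemeι ≫ f =
      Scheme.IdealSheafData.subschemeMap _ _ f (K.le_map_comap f) ≫ K.subschemeι :=
    (Scheme.IdealSheafData.subschemeMap_subschemeι _ _ _ _).symm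
  show (K.comap f).subschemeι.app (f ⁻¹ᵁ V) (f.app V (idVal K m)) = 0
  have h := ConcreteCategory.congr_hom (Scheme.Hom.congr_app w V) (idVal K m)
  rw [Scheme.Hom.comp_app, Scheme.Hom.comp_app] at h
  refine h.trans ?_
  refine (congrArg _ ((CommRingCat.comp_apply _ _ _).trans
    ((congrArg _ (app_idVal K m)).trans (map_zero _)))).trans (map_zero ((K.comap f).subscheme.presheaf.map _).hom)

/-- The pulled back ideal maps to the ideal of the pullback. -/
def toComap : pb f (ClSub.idealMod K) ⟶ ClSub.idealMod (K.comap f) :=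
  kernel.lift _ (pullIdeal f K) (pullIdeal_comp f K)

omit [Flat f] in
theorem toComap_ι : toComap f K ≫ ClSub.idealModι (K.comap f) = pullIdeal f K := kernel.lift_ι _ _ _

theorem isIso_toComap [IsAffine S] : IsIso (toComap f K) := by
  haveI : Mono (toComap f K) := mono_of_mono_fac (toComap_ι f K)
  haveI : Epi (toComap f K) := by
    refine QCohLib.epi_of_surjective_on_affines _ fun V s p hp => ?_
    obtain ⟨U, hU, hpU, hUV⟩ := exists_isAffineOpen_mem_and_subset hp
    refine ⟨U, hUV, hpU, ?_⟩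
    let J := K.comap f
    let s' := AmpleLib.res (ClSub.idealMod J) hUV s
    let b : Γ(T, U) := idVal J s'
    have hb : b ∈ J.ideal ⟨U, hU⟩ := by
      rw [← congrArg (fun I : T.IdealSheafData => I.ideal ⟨U, hU⟩) J.ker_subschemeι, Scheme.Hom.ker_apply, RingHom.mem_ker]
      exact app_idVal J s'
    have hle : U ≤ f ⁻¹ᵁ (⊤ : S.Opens) := fun _ _ => trivial
    rw [Groth.Agent.S4666.ideal_comap_eq K f ⟨⊤, isAffineOpen_top S⟩ ⟨U, hU⟩ hle] at hb
    suffices h : ∃ t, (pullIdeal f K).app U t = b by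
      obtain ⟨t, ht⟩ := h
      refine ⟨t, idVal_injective J U ?_⟩
      rw [idVal, ← ConcreteCategory.comp_apply, ← Scheme.Modules.Hom.comp_app, toComap_ι]
      exact ht
    refine Submodule.span_induction (p := fun y _ => ∃ t, (pullIdeal f K).app U t = y) ?_ ?_ ?_ ?_ hb
    · intro y hy
      obtain ⟨a, ha, rfl⟩ := hy
      obtain ⟨m, rfl⟩ := exists_idVal K (V := (⊤ : S.Opens)) (b := a) (by
        rw [SetLike.mem_coe, ← congrArg (fun I : S.IdealSheafData => I.ideal ⟨⊤, isAffineOpen_top S⟩) K.ker_subschemeι,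
          Scheme.Hom.ker_apply, RingHom.mem_ker] at ha
        exact ha)
      refine ⟨AmpleLib.res _ hle (puSec f m), ?_⟩
      exact (QCohLib.app_map (pullIdeal f K) (homOfLE hle) (puSec f m)).trans
        (congrArg (T.presheaf.map (homOfLE hle).op) (pullIdeal_puSec f K m))
    · exact ⟨0, map_zero _⟩
    · intro y z _ _ hy hz
      obtain ⟨t, rfl⟩ := hy
      obtain ⟨t', rfl⟩ := hz
      exact ⟨t + t', map_add _ _ _⟩
    · intro r y _ hy
      obtain ⟨t, rfl⟩ := hy
      exact ⟨(r : Γ(T, U)) • t, QCohLib.app_smul _ _ _ _⟩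
  exact isIso_of_mono_of_epi _

omit [Flat f] in
theorem killedByIdeal_idealMod {K' : S.IdealSheafData} (h : K' * K = ⊥) : ClSub.KilledByIdeal K' (ClSub.idealMod K) := by
  intro U a ha m
  refine idVal_injective K U.1 ?_
  have h1 : idVal K (show Γ(ClSub.idealMod K, U.1) from a • m) = a * idVal K m :=
    Scheme.Modules.Hom.app_smul (ClSub.idealModι K) a m
  refine h1.trans (Eq.trans ?_ (map_zero ((ClSub.idealModι K).app U.1).hom).symm)
  have hb : idVal K m ∈ K.ideal U := by
    rw [← congrArg (fun I : S.IdealSheafData => I.ideal U) K.ker_subschemeι, Scheme.Hom.ker_apply, RingHom.mem_ker]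
    exact app_idVal K m
  have h0 := Ideal.mul_mem_mul ha hb
  rw [← Pi.mul_apply K'.ideal K.ideal, ← Scheme.IdealSheafData.ideal_mul, h, Scheme.IdealSheafData.ideal_bot] at h0
  exact h0

theorem subsingleton_HH_free {Z : Scheme.{u}} (p : ℕ) (h : Subsingleton (Coh.HH Z (Coh.structureModule Z) p)) :
    ∀ n, Subsingleton (Coh.HH Z (FlatMod.freeMod Z n) p)
  | 0 => AVIndexLib.subsingleton_HH_isZero (by
      rw [IsZero.iff_id_eq_zero]
      exact Sigma.hom_ext _ _ fun i => i.elim0) p
  | n + 1 => SerreVanLib.subsingleton_HH_of_iso (CurvLib.freeModSucc Z n) p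
      (AVIndexLib.subsingleton_HH_biprod p h (subsingleton_HH_free p h n))

/-- The cohomology of the ideal of a base change, when the ideal lives over a closed point. -/
theorem subsingleton_HH_idealMod_comap {k : Type u} [Field k] [IsAffine S] [IsLocallyNoetherian S]
    (g₀ : Spec (CommRingCat.of k) ⟶ S) [IsClosedImmersion g₀] (hK : g₀.ker * K = ⊥)
    {X₀ : Scheme.{u}} {π : X₀ ⟶ T} {f₀ : X₀ ⟶ Spec (CommRingCat.of k)} (H : IsPullback π f₀ f g₀)
    (p : ℕ) (h : Subsingleton (Coh.HH X₀ (Coh.structureModule X₀) p)) :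
    Subsingleton (Coh.HH T (ClSub.idealMod (K.comap f)) p) := by
  haveI : IsClosedImmersion π := MorphismProperty.of_isPullback H.flip ‹IsClosedImmersion g₀›
  let M := ClSub.idealMod K
  let N := (Scheme.Modules.pullback g₀).obj M
  haveI := DevissLib.isIso_unit_of_killed g₀ (killedByIdeal_idealMod K hK)
  haveI hMq : Coh.IsQCoh M := SweepSix.ConormalSpec.isQCoh_idealMod K
  haveI : Mono (ClSub.idealModι K) := inferInstanceAs (Mono (kernel.ι _))
  have hMc : Coh.IsCoh M := QCohLib.isCoh_of_mono (ClSub.idealModι K) (DevissLib.isCoh_structureModule S) hMq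
  have hN : Coh.IsCoh N := ConsLib.isCoh_pullback g₀ hMc
  haveI := hN.1
  obtain ⟨r, ⟨eN⟩⟩ := CohCmpLib.exists_freeMod_iso_of_field k N hN.2
  haveI : HasInjectiveResolutions (Spec (CommRingCat.of k)).Modules := inferInstance
  haveI : HasInjectiveResolutions X₀.Modules := inferInstance
  haveI : PreservesFiniteLimits (Scheme.Modules.pushforward g₀) := CohCmpLib.preservesFiniteLimits_push
  haveI : PreservesFiniteLimits (Scheme.Modules.pushforward π) := CohCmpLib.preservesFiniteLimits_push
  obtain ⟨eb⟩ := Groth.Agent.S0033.result g₀ f f₀ π H.flip N 0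
  let φ : pb f M ≅ (Coh.push π).obj (FlatMod.freeMod X₀ r) :=
    (Scheme.Modules.pullback f).mapIso (asIso ((Scheme.Modules.pullbackPushforwardAdjunction g₀).unit.app M) ≪≫
      ((Scheme.Modules.pushforward g₀).rightDerivedZeroIsoSelf.app N).symm) ≪≫ eb ≪≫
    (Scheme.Modules.pushforward π).rightDerivedZeroIsoSelf.app _ ≪≫
    (Coh.push π).mapIso ((Scheme.Modules.pullback f₀).mapIso eN ≪≫ KFlatLib.pullFreeIso f₀ r)
  haveI := isIso_toComap f K
  have hfree := subsingleton_HH_free p h r
  haveI : Coh.IsQCoh (FlatMod.freeMod X₀ r) := CurvLib.isQCoh_freeMod X₀ r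
  refine SerreVanLib.subsingleton_HH_of_iso ((asIso (toComap f K)).symm ≪≫ φ) p ?_
  exact (Groth.Agent.S0012.result π (FlatMod.freeMod X₀ r) p).some.symm.injective.subsingleton

end PicH1Lib
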