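import Groth.Agent.PicH1Lib.SqLES
import Groth.Agent.AmpleDevLib.Pull

/-!
# Lifting line bundles along square zero closed immersions
-/

set_option autoImplicit false
set_option linter.style.haveILetI false
universe u

open CategoryTheory CategoryTheory.Limits AlgebraicGeometry TopologicalSpace Opposite
open KFlatLib (pb)

noncomputable section

namespace PicH1Lib

variable {Z T : Scheme.{u}} (t : Z ⟶ T) [IsClosedImmersion t] (hI : t.ker * t.ker = ⊥)

include hI in
/-- Uniqueness of extensions. -/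
theorem iso_of_pullback_iso (h1 : Subsingleton (Coh.HH T (ClSub.idealMod t.ker) 1)) {L M : T.Modules}
    (hL : PicF.IsInvertible L) (hM : PicF.IsInvertible M) (e : pb t L ≅ pb t M) : Nonempty (L ≅ M) := by
  have hw : t.toImage ≫ t.ker.subschemeι = t := t.toImage_imageι
  let e1 : pb t.toImage (pb t.ker.subschemeι L) ≅ pb t.toImage (pb t.ker.subschemeι M) :=
    (Scheme.Modules.pullbackComp _ _).app L ≪≫ (Scheme.Modules.pullbackCongr hw).app L ≪≫ e ≪≫
      (Scheme.Modules.pullbackCongr hw).symm.app M ≪≫ ((Scheme.Modules.pullbackComp _ _).app M).symm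
  obtain ⟨e2⟩ := PicPnLib.iso_of_pb_iso t.toImage e1
  obtain ⟨a, ha⟩ := exists_rel_of_isInvertible (isHomeomorph_id T) hL
  obtain ⟨b, hb⟩ := exists_rel_of_isInvertible (isHomeomorph_id T) hM
  have hab : H1map t.ker.subschemeι (a - b) = 0 := by
    rw [map_sub, sub_eq_zero]
    exact (ha.pullback.of_iso _ e2).unique _ hb.pullback
  obtain ⟨x, hx⟩ := (H1map_eq_zero_iff hI _).mp hab
  haveI : Subsingleton (QCohLib.HU ((QCohLib.toAbF T).obj (ClSub.idealMod t.ker)) 1 ⊤) :=
    (hI' t.ker 1).symm.injective.subsingleton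
  rw [Subsingleton.elim x 0, map_zero] at hx
  exact ha.iso_of_eq ((sub_eq_zero.mp hx.symm) ▸ hb)

include hI in
/-- Existence of extensions. -/
theorem exists_pullback_iso (h2 : Subsingleton (Coh.HH T (ClSub.idealMod t.ker) 2)) {N : Z.Modules}
    (hN : PicF.IsInvertible N) : ∃ L : T.Modules, PicF.IsInvertible L ∧ Nonempty (pb t L ≅ N) := by
  have hw : t.toImage ≫ t.ker.subschemeι = t := t.toImage_imageι
  let N' := pb (inv t.toImage) N
  have hN' : PicF.IsInvertible N' := AmpleDevLib.isInvertible_pb _ hN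
  obtain ⟨c, hc⟩ := exists_rel_of_isInvertible (isHomeomorph_of_sq_zero hI) hN'
  haveI : Subsingleton (QCohLib.HU ((QCohLib.toAbF T).obj (ClSub.idealMod t.ker)) 2 ⊤) :=
    (hI' t.ker 2).symm.injective.subsingleton
  obtain ⟨d, hd⟩ := (obs_eq_zero_iff hI c).mp (Subsingleton.elim _ _)
  obtain ⟨L, hL⟩ := exists_module_rel (𝟙 T) d
  obtain ⟨e2⟩ := (hd ▸ hL.pullback : Rel t.ker.subschemeι (pb t.ker.subschemeι L) c).iso_of_eq hc
  refine ⟨L, hL.isInvertible, ⟨((Scheme.Modules.pullbackCongr hw).app L).symm ≪≫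
    ((Scheme.Modules.pullbackComp _ _).app L).symm ≪≫ (Scheme.Modules.pullback t.toImage).mapIso e2 ≪≫
    (Scheme.Modules.pullbackComp _ _).app N ≪≫
    (Scheme.Modules.pullbackCongr (IsIso.hom_inv_id t.toImage)).app N ≪≫ (Scheme.Modules.pullbackId _).app N⟩⟩

end PicH1Lib
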