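import Groth.Agent.PicH1Lib.SqZero
import Groth.Agent.DegPullLib.H0

/-!
# The exact sequence of Picard groups of a square zero thickening
-/

set_option autoImplicit false
set_option linter.style.haveILetI false
universe u

open CategoryTheory CategoryTheory.Limits AlgebraicGeometry TopologicalSpace Opposite CategoryTheory.Abelian

noncomputable section

namespace PicH1Lib

variable {X : Scheme.{u}} {I : X.IdealSheafData} (hI : I * I = ⊥)

/-- Cohomology of the ideal, in the form used here. -/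
def hI' (I : X.IdealSheafData) (n : ℕ) : Coh.HH X (ClSub.idealMod I) n ≃+ QCohLib.HU ((QCohLib.toAbF X).obj (ClSub.idealMod I)) n ⊤ :=
  QCohLib.hEquiv ((QCohLib.toAbF X).obj (ClSub.idealMod I)) n

/-- `H⁰(I) → Γ(O)^*`. -/
def epsHom : Multiplicative (Coh.HH X (ClSub.idealMod I) 0) →* (Γ(X, ⊤))ˣ :=
  MonoidHom.mk' (fun x => onePlus hI (DegPullLib.e0 (ClSub.idealMod I) x.toAdd)) fun a b => by
    rw [toAdd_mul, map_add, onePlus_add]

theorem epsHom_injective : Function.Injective (epsHom hI) := fun a b h => by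
  have h1 := congrArg Units.val h
  exact Multiplicative.toAdd.injective ((DegPullLib.e0 (ClSub.idealMod I)).injective
    (idVal_injective I ⊤ (add_left_cancel h1)))

/-- Restriction of units. -/
abbrev resUnits (I : X.IdealSheafData) : (Γ(X, ⊤))ˣ →* (Γ(I.subscheme, ⊤))ˣ :=
  Units.map I.subschemeι.appTop.hom.toMonoidHom

theorem ker_resUnits : (resUnits I).ker = (epsHom hI).range := by
  ext v
  constructor
  · intro h
    have h1 : I.subschemeι.app ⊤ (v.1 : Γ(X, ⊤)) = 1 := congrArg Units.val h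
    obtain ⟨s, hs⟩ := exists_idVal I (b := v.1 - 1) (by rw [map_sub, h1, map_one, sub_self])
    refine ⟨Multiplicative.ofAdd ((DegPullLib.e0 (ClSub.idealMod I)).symm s), Units.ext ?_⟩
    show 1 + idVal I (DegPullLib.e0 (ClSub.idealMod I) ((DegPullLib.e0 (ClSub.idealMod I)).symm s)) = v.1
    rw [AddEquiv.apply_symm_apply, hs]
    exact add_sub_cancel _ _
  · rintro ⟨s, rfl⟩
    refine Units.ext ?_
    show I.subschemeι.app ⊤ (1 + idVal I _) = 1
    rw [map_add, map_one, app_idVal, add_zero]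

/-- A unit of the subscheme, as a global section of the pushed forward sheaf. -/
def uSec (I : X.IdealSheafData) (v : (Γ(I.subscheme, ⊤))ˣ) : (A I.subschemeι).obj.obj (op (⊤ : X.Opens)) :=
  UnitsSh.sectOfUnit (O := I.subscheme.sheaf.obj) (U := op (⊤ : I.subscheme.Opens)) v

theorem uSec_mul (v w : (Γ(I.subscheme, ⊤))ˣ) : uSec I (v * w) = uSec I v + uSec I w := rfl

/-- The first connecting map. -/
def delta₀ : (Γ(I.subscheme, ⊤))ˣ →* Multiplicative (Coh.HH X (ClSub.idealMod I) 1) :=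
  MonoidHom.mk' (fun v => Multiplicative.ofAdd ((hI' I 1).symm (QCohLib.delta0 (sqSeq_shortExact hI) ⊤ (uSec I v))))
    fun v w => by rw [uSec_mul, map_add, map_add, ofAdd_add]

theorem delta₀_eq_one_iff (v : (Γ(I.subscheme, ⊤))ˣ) : delta₀ hI v = 1 ↔
    QCohLib.delta0 (sqSeq_shortExact hI) ⊤ (uSec I v) = 0 :=
  (Multiplicative.ofAdd.injective.eq_iff' rfl).trans (AddEquiv.map_eq_zero_iff (hI' I 1).symm)

theorem ker_delta₀ : (delta₀ hI).ker = (resUnits I).range := by
  ext v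
  rw [MonoidHom.mem_ker, delta₀_eq_one_iff, QCohLib.delta0_eq_zero_iff]
  constructor
  · rintro ⟨t, ht⟩
    exact ⟨UnitsSh.unitOfSect (O := X.sheaf.obj) (U := op (⊤ : X.Opens)) t,
      congrArg (fun w => UnitsSh.unitOfSect (O := I.subscheme.sheaf.obj) (U := op (⊤ : I.subscheme.Opens)) w) ht⟩
  · rintro ⟨w, rfl⟩
    exact ⟨UnitsSh.sectOfUnit (O := X.sheaf.obj) (U := op (⊤ : X.Opens)) w, rfl⟩

/-- `H¹(I) → H¹(O^*)`. -/
def epsH1 : QCohLib.HU ((QCohLib.toAbF X).obj (ClSub.idealMod I)) 1 ⊤ →+ H1 (𝟙 X) :=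
  (Ext.mk₀ (eps hI)).postcomp (QCohLib.zsh ⊤) (add_zero 1)

theorem epsH1_eq_zero_iff (x : QCohLib.HU ((QCohLib.toAbF X).obj (ClSub.idealMod I)) 1 ⊤) :
    epsH1 hI x = 0 ↔ ∃ s, QCohLib.delta0 (sqSeq_shortExact hI) ⊤ s = x := by
  constructor
  · intro h
    obtain ⟨y, hy⟩ := Ext.covariant_sequence_exact₁ (QCohLib.zsh ⊤) (sqSeq_shortExact hI) x h (zero_add 1)
    refine ⟨QCohLib.h0 y, ?_⟩
    show (QCohLib.h0.symm (QCohLib.h0 y)).comp (sqSeq_shortExact hI).extClass (zero_add 1) = x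
    rw [AddEquiv.symm_apply_apply]
    exact hy
  · rintro ⟨s, rfl⟩
    show ((QCohLib.h0.symm s).comp (sqSeq_shortExact hI).extClass (zero_add 1)).comp (Ext.mk₀ (eps hI)) (add_zero 1) = 0
    rw [Ext.comp_assoc_of_third_deg_zero, (sqSeq_shortExact hI).extClass_comp, Ext.comp_zero]

theorem H1map_eq_zero_iff (c : H1 (𝟙 X)) : H1map I.subschemeι c = 0 ↔ ∃ x, epsH1 hI x = c := by
  constructor
  · intro h
    obtain ⟨x, hx⟩ := Ext.covariant_sequence_exact₂ (QCohLib.zsh ⊤) (sqSeq_shortExact hI) c h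
    exact ⟨x, hx⟩
  · rintro ⟨x, rfl⟩
    show (x.comp (Ext.mk₀ (eps hI)) (add_zero 1)).comp (Ext.mk₀ (τ₁ I.subschemeι)) (add_zero 1) = 0
    rw [Ext.comp_assoc_of_third_deg_zero, Ext.mk₀_comp_mk₀, eps_comp, Ext.mk₀_zero, Ext.comp_zero]

/-- The obstruction. -/
def obs : H1 I.subschemeι →+ QCohLib.HU ((QCohLib.toAbF X).obj (ClSub.idealMod I)) 2 ⊤ :=
  (sqSeq_shortExact hI).extClass.postcomp (QCohLib.zsh ⊤) rfl

theorem obs_eq_zero_iff (c : H1 I.subschemeι) : obs hI c = 0 ↔ ∃ d, H1map I.subschemeι d = c := by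
  constructor
  · intro h
    obtain ⟨d, hd⟩ := Ext.covariant_sequence_exact₃ (QCohLib.zsh ⊤) (sqSeq_shortExact hI) c rfl h
    exact ⟨d, hd⟩
  · rintro ⟨d, rfl⟩
    show (d.comp (Ext.mk₀ (τ₁ I.subschemeι)) (add_zero 1)).comp (sqSeq_shortExact hI).extClass rfl = 0
    rw [Ext.comp_assoc_of_second_deg_zero, (sqSeq_shortExact hI).comp_extClass, Ext.comp_zero]

variable [PicGrp.Law X] [PicGrp.Law I.subscheme]

/-- The Picard group of the thickening. -/
abbrev picX : Additive (PicLoc.PicSet X) ≃+ H1 (𝟙 X) := picEquiv (isHomeomorph_id X)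

/-- The Picard group of the subscheme, computed on the thickening. -/
abbrev picZ : Additive (PicLoc.PicSet I.subscheme) ≃+ H1 I.subschemeι := picEquiv (isHomeomorph_of_sq_zero hI)

theorem picZ_pullHom (hi : PicGrp.PullMul I.subschemeι) (c : PicLoc.PicSet X) :
    picZ hI (Additive.ofMul (PicGrp.pullHom I.subschemeι hi c)) = H1map I.subschemeι (picX (Additive.ofMul c)) := by
  obtain ⟨L, hL, rfl⟩ := PicGrp.exists_eq_cls c
  rw [PicGrp.pullHom_cls]
  exact (picEquiv_rel (isHomeomorph_of_sq_zero hI) (PicLoc.isInvertible_pullback I.subschemeι hL)).unique _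
    (picEquiv_rel (isHomeomorph_id X) hL).pullback

/-- `H¹(I) → Pic`. -/
def alphaHom : Multiplicative (Coh.HH X (ClSub.idealMod I) 1) →* PicLoc.PicSet X :=
  MonoidHom.mk' (fun x => (picX.symm (epsH1 hI (hI' I 1 x.toAdd))).toMul) fun a b => by
    rw [toAdd_mul, map_add, map_add, map_add, toMul_add]

theorem alphaHom_eq_one_iff (x : Multiplicative (Coh.HH X (ClSub.idealMod I) 1)) :
    alphaHom hI x = 1 ↔ epsH1 hI (hI' I 1 x.toAdd) = 0 := by
  refine Iff.trans ?_ (AddEquiv.map_eq_zero_iff (picX (X := X)).symm)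
  exact ⟨fun h => Additive.toMul.injective h, fun h => congrArg Additive.toMul h⟩

theorem ker_alphaHom : (alphaHom hI).ker = (delta₀ hI).range := by
  ext x
  rw [MonoidHom.mem_ker, alphaHom_eq_one_iff, epsH1_eq_zero_iff]
  constructor
  · rintro ⟨s, hs⟩
    refine ⟨UnitsSh.unitOfSect (O := I.subscheme.sheaf.obj) (U := op (⊤ : I.subscheme.Opens)) s, ?_⟩
    show Multiplicative.ofAdd ((hI' I 1).symm (QCohLib.delta0 (sqSeq_shortExact hI) ⊤ s)) = x
    rw [hs, AddEquiv.symm_apply_apply]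
    rfl
  · rintro ⟨v, rfl⟩
    exact ⟨uSec I v, ((hI' I 1).apply_symm_apply _).symm⟩

theorem ker_pullHom (hi : PicGrp.PullMul I.subschemeι) :
    (PicGrp.pullHom I.subschemeι hi).ker = (alphaHom hI).range := by
  ext c
  rw [MonoidHom.mem_ker]
  have h1 : PicGrp.pullHom I.subschemeι hi c = 1 ↔ H1map I.subschemeι (picX (Additive.ofMul c)) = 0 := by
    rw [← picZ_pullHom hI hi, AddEquiv.map_eq_zero_iff]
    rfl
  rw [h1, H1map_eq_zero_iff hI]
  constructor
  · rintro ⟨x, hx⟩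
    refine ⟨Multiplicative.ofAdd ((hI' I 1).symm x), ?_⟩
    show (picX.symm (epsH1 hI (hI' I 1 ((hI' I 1).symm x)))).toMul = c
    rw [AddEquiv.apply_symm_apply, hx, AddEquiv.symm_apply_apply]
    rfl
  · rintro ⟨x, rfl⟩
    exact ⟨hI' I 1 x.toAdd, ((picX (X := X)).apply_symm_apply _).symm⟩

/-- The obstruction to extending a line bundle. -/
def delta₁ : PicLoc.PicSet I.subscheme →* Multiplicative (Coh.HH X (ClSub.idealMod I) 2) :=
  MonoidHom.mk' (fun c => Multiplicative.ofAdd ((hI' I 2).symm (obs hI (picZ hI (Additive.ofMul c))))) fun a b => by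
    rw [ofMul_mul, map_add, map_add, map_add, ofAdd_add]

theorem ker_delta₁ (hi : PicGrp.PullMul I.subschemeι) :
    (delta₁ hI).ker = (PicGrp.pullHom I.subschemeι hi).range := by
  ext c
  have h1 : delta₁ hI c = 1 ↔ obs hI (picZ hI (Additive.ofMul c)) = 0 :=
    (Multiplicative.ofAdd.injective.eq_iff' rfl).trans (AddEquiv.map_eq_zero_iff (hI' I 2).symm)
  rw [MonoidHom.mem_ker, h1, obs_eq_zero_iff]
  constructor
  · rintro ⟨d, hd⟩
    refine ⟨(picX.symm d).toMul, Additive.ofMul.injective ((picZ hI).injective ?_)⟩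
    rw [picZ_pullHom hI hi, ofMul_toMul, AddEquiv.apply_symm_apply, hd]
  · rintro ⟨d, rfl⟩
    exact ⟨picX (Additive.ofMul d), (picZ_pullHom hI hi d).symm⟩

end PicH1Lib
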