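import Groth.Agent.PicH1Lib.SqLES
import Groth.Agent.PicH1Lib.FlatIdeal
import Groth.Agent.FComplLib.Spf

/-!
# The steps of a flat adic system
-/

set_option autoImplicit false
set_option linter.style.haveILetI false
universe u

open CategoryTheory CategoryTheory.Limits AlgebraicGeometry TopologicalSpace Opposite

noncomputable section

namespace PicH1Lib

/-- Products of the kernels on an affine base. -/
theorem ker_mul_ker_eq_bot {R B C : Type u} [CommRing R] [CommRing B] [CommRing C] (φ : R →+* B) (ψ : R →+* C)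
    (h : RingHom.ker φ * RingHom.ker ψ = ⊥) :
    (Spec.map (CommRingCat.ofHom φ)).ker * (Spec.map (CommRingCat.ofHom ψ)).ker = ⊥ := by
  rw [FComplLib.ker_specMap, FComplLib.ker_specMap]
  refine Scheme.IdealSheafData.ext_of_isAffine ?_
  rw [Scheme.IdealSheafData.ideal_mul, Pi.mul_apply, BlowUpLib.specIdeal_top, BlowUpLib.specIdeal_top,
    ← Ideal.map_mul, h, Ideal.map_bot, Scheme.IdealSheafData.ideal_bot]
  rfl

theorem comap_mul_self_eq_bot {S T : Scheme.{u}} [IsAffine S] (f : T ⟶ S) (K : S.IdealSheafData) (h : K * K = ⊥) :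
    K.comap f * K.comap f = ⊥ := by
  refine Scheme.IdealSheafData.ext (funext fun U => ?_)
  rw [Scheme.IdealSheafData.ideal_mul, Pi.mul_apply,
    Groth.Agent.S4666.ideal_comap_eq K f ⟨⊤, isAffineOpen_top S⟩ U (fun _ _ => trivial), ← Ideal.map_mul]
  have h1 : K.ideal ⟨⊤, isAffineOpen_top S⟩ * K.ideal ⟨⊤, isAffineOpen_top S⟩ = ⊥ := by
    rw [← Pi.mul_apply K.ideal K.ideal, ← Scheme.IdealSheafData.ideal_mul, h]
    rfl
  rw [h1, Ideal.map_bot]
  rfl

variable {A : Type u} [CommRing A] [IsLocalRing A] [IsNoetherianRing A] {Xs : ℕ → Scheme.{u}}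
  {fs : ∀ n : ℕ, Xs n ⟶ Spec (CommRingCat.of (A ⧸ (IsLocalRing.maximalIdeal A) ^ (n + 1)))}
  {ts : ∀ n : ℕ, Xs n ⟶ Xs (n + 1)}
  (hcart : ∀ n : ℕ, IsPullback (ts n) (fs n) (fs (n + 1))
    (Spec.map (CommRingCat.ofHom (Ideal.Quotient.factor (Ideal.pow_le_pow_right (Nat.le_succ (n + 1)))))))
  (hflat : ∀ n, Flat (fs n))

include hcart in
omit [IsNoetherianRing A] in
/-- The closed fibre sits in every level. -/
theorem exists_closedFibre (n : ℕ) : ∃ π : Xs 0 ⟶ Xs n, IsPullback π (fs 0) (fs n)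
    (Spec.map (CommRingCat.ofHom (Ideal.Quotient.factor (S := (IsLocalRing.maximalIdeal A) ^ (n + 1))
      (T := (IsLocalRing.maximalIdeal A) ^ (0 + 1)) (Ideal.pow_le_pow_right (Nat.succ_le_succ (Nat.zero_le n)))))) := by
  induction n with
  | zero =>
    refine ⟨𝟙 _, ?_⟩
    rw [show Ideal.Quotient.factor (S := (IsLocalRing.maximalIdeal A) ^ (0 + 1)) (T := (IsLocalRing.maximalIdeal A) ^ (0 + 1))
      (Ideal.pow_le_pow_right (Nat.succ_le_succ (Nat.zero_le 0))) = RingHom.id _ from
        Ideal.Quotient.ringHom_ext (RingHom.ext fun a => rfl), CommRingCat.ofHom_id, Spec.map_id]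
    exact IsPullback.of_horiz_isIso ⟨by simp⟩
  | succ n ih =>
    obtain ⟨π, hπ⟩ := ih
    refine ⟨π ≫ ts n, ?_⟩
    have h := hπ.paste_horiz (hcart n)
    rw [← Spec.map_comp, ← CommRingCat.ofHom_comp] at h
    rw [show Ideal.Quotient.factor (S := (IsLocalRing.maximalIdeal A) ^ (n + 1 + 1))
      (T := (IsLocalRing.maximalIdeal A) ^ (0 + 1)) (Ideal.pow_le_pow_right (Nat.succ_le_succ (Nat.zero_le (n + 1)))) =
        (Ideal.Quotient.factor (S := (IsLocalRing.maximalIdeal A) ^ (n + 1))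
          (T := (IsLocalRing.maximalIdeal A) ^ (0 + 1)) (Ideal.pow_le_pow_right (Nat.succ_le_succ (Nat.zero_le n)))).comp
          (Ideal.Quotient.factor (Ideal.pow_le_pow_right (Nat.le_succ (n + 1)))) from
        Ideal.Quotient.ringHom_ext (RingHom.ext fun a => rfl)]
    exact h

include hcart in
omit [IsNoetherianRing A] in
/-- Each step is a thickening of square zero. -/
theorem step (n : ℕ) : IsClosedImmersion (ts n) ∧ (ts n).ker * (ts n).ker = ⊥ := by
  haveI : IsClosedImmersion (Spec.map (CommRingCat.ofHom (Ideal.Quotient.factor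
      (Ideal.pow_le_pow_right (Nat.le_succ (n + 1)) : (IsLocalRing.maximalIdeal A) ^ (n + 1).succ ≤ (IsLocalRing.maximalIdeal A) ^ (n + 1))))) :=
    IsClosedImmersion.spec_of_surjective _ (Ideal.Quotient.factor_surjective (Ideal.pow_le_pow_right (Nat.le_succ (n + 1))))
  have hc : IsClosedImmersion (ts n) := MorphismProperty.of_isPullback (hcart n).flip inferInstance
  refine ⟨hc, ?_⟩
  rw [← (hcart n).isoPullback_hom_fst, Scheme.Hom.ker_comp_of_isIso, Scheme.IdealSheafData.ker_fst_of_isClosedImmersion]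
  refine comap_mul_self_eq_bot _ _ (ker_mul_ker_eq_bot _ _ ?_)
  rw [Ideal.Quotient.factor_ker, ← Ideal.map_mul, Ideal.map_eq_bot_iff_le_ker, Ideal.mk_ker, ← pow_add]
  exact Ideal.pow_le_pow_right (by omega)

include hcart hflat in
/-- The cohomology of the ideal of a step vanishes with that of the closed fibre. -/
theorem subsingleton_HH_step (n p : ℕ) (h : Subsingleton (Coh.HH (Xs 0) (Coh.structureModule (Xs 0)) p)) :
    Subsingleton (Coh.HH (Xs (n + 1)) (ClSub.idealMod (ts n).ker) p) := by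
  let m := IsLocalRing.maximalIdeal A
  let g := Spec.map (CommRingCat.ofHom (Ideal.Quotient.factor (S := m ^ (n + 1).succ) (T := m ^ (n + 1))
    (Ideal.pow_le_pow_right (Nat.le_succ (n + 1)))))
  haveI : IsClosedImmersion g := IsClosedImmersion.spec_of_surjective _ (Ideal.Quotient.factor_surjective (Ideal.pow_le_pow_right (Nat.le_succ (n + 1))))
  have hker : (ts n).ker = g.ker.comap (fs (n + 1)) := by
    rw [← (hcart n).isoPullback_hom_fst, Scheme.Hom.ker_comp_of_isIso, Scheme.IdealSheafData.ker_fst_of_isClosedImmersion]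
  rw [hker]
  haveI : (m ^ (0 + 1)).IsMaximal := by rw [zero_add, pow_one]; infer_instance
  letI : Field (A ⧸ m ^ (0 + 1)) := Ideal.Quotient.field _
  obtain ⟨π, hπ⟩ := exists_closedFibre hcart (n + 1)
  haveI := hflat (n + 1)
  haveI : IsClosedImmersion (Spec.map (CommRingCat.ofHom (Ideal.Quotient.factor (S := m ^ (n + 1 + 1)) (T := m ^ (0 + 1))
      (Ideal.pow_le_pow_right (Nat.succ_le_succ (Nat.zero_le (n + 1))))))) :=
    IsClosedImmersion.spec_of_surjective _ (Ideal.Quotient.factor_surjective (Ideal.pow_le_pow_right (Nat.succ_le_succ (Nat.zero_le (n + 1)))))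
  haveI : IsLocallyNoetherian (Spec (CommRingCat.of (A ⧸ m ^ (n + 1 + 1)))) := inferInstance
  refine subsingleton_HH_idealMod_comap (fs (n + 1)) g.ker _ (ker_mul_ker_eq_bot _ _ ?_) hπ p h
  rw [Ideal.Quotient.factor_ker, Ideal.Quotient.factor_ker, ← Ideal.map_mul, Ideal.map_eq_bot_iff_le_ker, Ideal.mk_ker,
    ← pow_add]
  exact Ideal.pow_le_pow_right (by omega)

end PicH1Lib
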