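import Groth.Agent.PicH1Lib.Natural
import Groth.Agent.PicTorsLib.Roots
import Groth.Prelude.Def_ClSub2
import Groth.Prelude.Def_Coh
import Groth.Agent.QCohLib.Modules

/-!
# The units sequence of a square zero ideal
-/

set_option autoImplicit false
set_option linter.style.haveILetI false
universe u

open CategoryTheory CategoryTheory.Limits AlgebraicGeometry TopologicalSpace Opposite
open QCohLib (pf)

noncomputable section

namespace PicH1Lib

variable {X : Scheme.{u}} (I : X.IdealSheafData)

variable {I} in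
theorem surjective_of_sq_zero (hI : I * I = ⊥) : Surjective I.subschemeι := by
  have h : I.support = ⊤ := by
    have h1 := congrArg Scheme.IdealSheafData.support hI
    rw [Scheme.IdealSheafData.support_mul, sup_idem, Scheme.IdealSheafData.support_bot] at h1
    exact h1
  refine ⟨fun x => ?_⟩
  have : x ∈ Set.range I.subschemeι := by
    rw [Scheme.IdealSheafData.range_subschemeι, h]
    trivial
  exact this

variable {I} in
theorem isHomeomorph_of_sq_zero (hI : I * I = ⊥) : IsHomeomorph I.subschemeι.base := by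
  haveI := surjective_of_sq_zero hI
  exact isHomeomorph_iff_continuous_isClosedMap_bijective.mpr
    ⟨I.subschemeι.continuous, I.subschemeι.isClosedMap, I.subschemeι.isClosedEmbedding.injective, I.subschemeι.surjective⟩

variable {I} in
theorem mul_eq_zero_of_sq_zero (hI : I * I = ⊥) {V : X.Opens} {a b : Γ(X, V)} (ha : I.subschemeι.app V a = 0)
    (hb : I.subschemeι.app V b = 0) : a * b = 0 := by
  refine TopCat.Presheaf.section_ext X.sheaf V _ _ fun y hy => ?_
  obtain ⟨U, hU, hyU, hUV⟩ := exists_isAffineOpen_mem_and_subset hy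
  have key : ∀ c : Γ(X, V), I.subschemeι.app V c = 0 →
      X.presheaf.map (homOfLE hUV).op c ∈ I.ideal ⟨U, hU⟩ := fun c hc => by
    rw [← congrArg (fun J : X.IdealSheafData => J.ideal ⟨U, hU⟩) I.ker_subschemeι, Scheme.Hom.ker_apply, RingHom.mem_ker]
    refine (ConcreteCategory.congr_hom (I.subschemeι.naturality (homOfLE hUV).op) c).trans ?_
    rw [CommRingCat.comp_apply, hc, map_zero]
  have h0 := Ideal.mul_mem_mul (key a ha) (key b hb)
  rw [← Pi.mul_apply I.ideal I.ideal, ← Scheme.IdealSheafData.ideal_mul, hI, Scheme.IdealSheafData.ideal_bot] at h0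
  have h1 : X.presheaf.map (homOfLE hUV).op (a * b) = 0 := by
    rw [map_mul]
    exact h0
  exact (TopCat.Presheaf.germ_res_apply X.presheaf (homOfLE hUV) y hyU (a * b)).symm.trans
    ((congrArg (X.presheaf.germ U y hyU) h1).trans ((map_zero _).trans (map_zero (X.presheaf.germ V y hy).hom).symm))

/-- The functions in the ideal. -/
def idVal {V : X.Opens} (s : Γ(ClSub.idealMod I, V)) : Γ(X, V) := (ClSub.idealModι I).app V s

theorem app_idVal {V : X.Opens} (s : Γ(ClSub.idealMod I, V)) : I.subschemeι.app V (idVal I s) = 0 := by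
  change (ClSub.idealModι I ≫ ClSub.toSubscheme I).app V s = 0
  rw [show ClSub.idealModι I ≫ ClSub.toSubscheme I = 0 from kernel.condition _]
  rfl

theorem idVal_injective (V : X.Opens) : Function.Injective (idVal I (V := V)) :=
  haveI : Mono (ClSub.idealModι I) := inferInstanceAs (Mono (kernel.ι _))
  QCohLib.app_injective_of_mono (ClSub.idealModι I) V

theorem exists_idVal {V : X.Opens} {b : Γ(X, V)} (h : I.subschemeι.app V b = 0) :
    ∃ s : Γ(ClSub.idealMod I, V), idVal I s = b := by
  let T : ShortComplex X.Modules := ShortComplex.mk (ClSub.idealModι I) (ClSub.toSubscheme I) (kernel.condition _)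
  exact QCohLib.exists_of_app_eq_zero (S := T) (ShortComplex.exact_of_f_is_kernel _ (kernelIsKernel _))
    (inferInstanceAs (Mono (kernel.ι _))) b h

variable {I} (hI : I * I = ⊥)

/-- `1 + s`. -/
def onePlus {V : X.Opens} (s : Γ(ClSub.idealMod I, V)) : (Γ(X, V))ˣ where
  val := 1 + idVal I s
  inv := 1 - idVal I s
  val_inv := by linear_combination -(mul_eq_zero_of_sq_zero hI (app_idVal I s) (app_idVal I s))
  inv_val := by linear_combination -(mul_eq_zero_of_sq_zero hI (app_idVal I s) (app_idVal I s))

theorem idVal_add {V : X.Opens} (s t : Γ(ClSub.idealMod I, V)) : idVal I (s + t) = idVal I s + idVal I t :=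
  map_add ((ClSub.idealModι I).app V).hom s t

theorem onePlus_add {V : X.Opens} (s t : Γ(ClSub.idealMod I, V)) :
    onePlus hI (s + t) = onePlus hI s * onePlus hI t := by
  refine Units.ext ?_
  show 1 + idVal I (s + t) = (1 + idVal I s) * (1 + idVal I t)
  rw [idVal_add]
  linear_combination -(mul_eq_zero_of_sq_zero hI (app_idVal I s) (app_idVal I t))

/-- `s ↦ 1 + s`, to the units. -/
def eps : (QCohLib.toAbF X).obj (ClSub.idealMod I) ⟶ A (𝟙 X) :=
  ⟨{ app := fun V => AddCommGrpCat.ofHom (AddMonoidHom.mk'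
        (fun s => UnitsSh.sectOfUnit (O := X.sheaf.obj) (U := V) (onePlus hI (V := V.unop) s))
        fun s t => (congrArg UnitsSh.sectOfUnit (onePlus_add hI (V := V.unop) s t)).trans rfl)
     naturality := fun V W g => by
      refine ConcreteCategory.hom_ext _ _ fun s => ?_
      refine congrArg Additive.ofMul (Units.ext ?_)
      show (1 : Γ(X, W.unop)) + idVal I (V := W.unop) (((QCohLib.toAbF X).obj (ClSub.idealMod I)).obj.map g s) =
        (X.presheaf.map g (((1 : Γ(X, V.unop)) + idVal I (V := V.unop) s : Γ(X, V.unop))) : Γ(X, W.unop))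
      rw [map_add, map_one]
      exact congrArg (1 + ·) (ConcreteCategory.congr_hom ((ClSub.idealModι I).mapPresheaf.naturality g) s) }⟩

theorem eps_injective (V : X.Opens) : Function.Injective ((eps hI).hom.app (op V)) := fun s t h => by
  have h1 := congrArg (fun v => (UnitsSh.unitOfSect (O := X.sheaf.obj) (U := op V) v).1) h
  exact idVal_injective I V (add_left_cancel (h1 : 1 + idVal I (V := V) s = 1 + idVal I (V := V) t))

theorem eps_comp : eps hI ≫ τ₁ I.subschemeι = 0 := by
  refine ObjectProperty.hom_ext _ (NatTrans.ext (funext fun V => ConcreteCategory.hom_ext _ _ fun s => ?_))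
  refine congrArg Additive.ofMul (Units.ext ?_)
  show I.subschemeι.app V.unop (1 + idVal I (V := V.unop) s) = 1
  rw [map_add, map_one, app_idVal, add_zero]

theorem exists_eps_eq (V : X.Opens) (a : (A (𝟙 X)).obj.obj (op V))
    (h : (τ₁ I.subschemeι).hom.app (op V) a = 0) : ∃ s, (eps hI).hom.app (op V) s = a := by
  let v : (Γ(X, V))ˣ := UnitsSh.unitOfSect (O := X.sheaf.obj) (U := op V) a
  have h1 : I.subschemeι.app V (v.1 : Γ(X, V)) = 1 :=
    congrArg (fun w => (UnitsSh.unitOfSect (O := I.subscheme.sheaf.obj) (U := op (I.subschemeι ⁻¹ᵁ V)) w).1) h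
  obtain ⟨s, hs⟩ := exists_idVal I (b := v.1 - 1) (by rw [map_sub, h1, map_one, sub_self])
  exact ⟨s, congrArg Additive.ofMul (Units.ext ((congrArg (1 + ·) hs).trans (add_sub_cancel _ _)))⟩

/-- `0 → I → O^* → i_* O_Z^* → 0`. -/
abbrev sqSeq : ShortComplex (QCohLib.AbSh X.toTopCat) :=
  ShortComplex.mk (eps hI) (τ₁ I.subschemeι) (eps_comp hI)

theorem sqSeq_shortExact : (sqSeq hI).ShortExact := by
  have hm : Mono (eps hI) := by
    have : ∀ V, Mono ((eps hI).hom.app V) := fun V =>
      (AddCommGrpCat.mono_iff_injective _).mpr (eps_injective hI V.unop)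
    have : Mono ((sheafToPresheaf _ _).map (eps hI)) := NatTrans.mono_of_mono_app (eps hI).hom
    exact (sheafToPresheaf _ _).mono_of_mono_map this
  refine { exact := ?_, mono_f := hm, epi_g := ?_ }
  · refine ShortComplex.exact_of_f_is_kernel _ (KernelFork.IsLimit.ofι' _ _ fun {W} g hg => ?_)
    choose l hl using fun (V : (Opens X.toTopCat)ᵒᵖ) (w : W.obj.obj V) => exists_eps_eq hI V.unop (g.hom.app V w)
      (ConcreteCategory.congr_hom (congrArg (fun t => t.hom.app V) hg) w)
    refine ⟨⟨{ app := fun V => AddCommGrpCat.ofHom (AddMonoidHom.mk' (l V) fun a b =>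
        eps_injective hI V.unop ((hl V (a + b)).trans ((map_add (g.hom.app V).hom a b).trans
          ((congrArg₂ (· + ·) (hl V a).symm (hl V b).symm).trans (map_add ((eps hI).hom.app V).hom (l V a) (l V b)).symm))))
               naturality := fun V V' φ => ?_ }⟩, ?_⟩
    · refine ConcreteCategory.hom_ext _ _ fun w => eps_injective hI V'.unop ((hl V' _).trans ?_)
      refine (ConcreteCategory.congr_hom (g.hom.naturality φ) w).trans ?_
      refine Eq.trans ?_ (ConcreteCategory.congr_hom ((eps hI).hom.naturality φ) (l V w)).symm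
      exact congrArg ((A (𝟙 X)).obj.map φ) (hl V w).symm
    · refine ObjectProperty.hom_ext _ (NatTrans.ext (funext fun V => ConcreteCategory.hom_ext _ _ fun w => ?_))
      exact hl V w
  · refine (Sheaf.isLocallySurjective_iff_epi' (φ := τ₁ I.subschemeι)).mp
      ((TopCat.Presheaf.isLocallySurjective_iff _).mpr ?_)
    intro V s y hy
    obtain ⟨U, hU, hyU, hUV⟩ := exists_isAffineOpen_mem_and_subset hy
    haveI := surjective_of_sq_zero hI
    let v : (Γ(I.subscheme, I.subschemeι ⁻¹ᵁ U))ˣ := UnitsSh.unitOfSect (O := I.subscheme.sheaf.obj)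
      (U := op (I.subschemeι ⁻¹ᵁ U)) (((A I.subschemeι).obj.map (homOfLE hUV).op) s)
    obtain ⟨r, hr⟩ := I.subschemeι_app_surjective ⟨U, hU⟩ v.1
    have hru : IsUnit r := PicTorsLib.isUnit_of_app (i := I.subschemeι) (W := U) (r := r)
      (by rw [show (I.subschemeι.app U).hom r = v.1 from hr]; exact v.isUnit)
    refine ⟨U, hUV, ⟨UnitsSh.sectOfUnit (O := X.sheaf.obj) (U := op U) hru.unit, ?_⟩, hyU⟩
    exact congrArg Additive.ofMul (Units.ext hr)

end PicH1Lib
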