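import Groth.Agent.PicH1Lib.Tensor
import Groth.Agent.PicPnLib.Rel
import Groth.Prelude.Def_PicGrp

/-!
# The Picard group is the first cohomology of the units
-/

set_option autoImplicit false
set_option linter.style.haveILetI false
universe u

open CategoryTheory CategoryTheory.Limits AlgebraicGeometry TopologicalSpace Opposite
open QCohLib (pf)

noncomputable section

namespace PicH1Lib

variable {X₀ X' : Scheme.{u}} {f : X₀ ⟶ X'}

/-- Along a homeomorphism every invertible module is locally trivial downstairs. -/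
theorem LocTriv.of_isInvertible (hf : IsHomeomorph f.base) {L : X₀.Modules} (hL : PicF.IsInvertible L) :
    LocTriv f L := fun y => by
  obtain ⟨x, rfl⟩ := hf.bijective.2 y
  obtain ⟨U, t, hxU, ht⟩ := TwistLib.exists_genOn hL x
  let V : X'.Opens := ⟨f.base '' (U : Set X₀), hf.isOpenMap _ U.isOpen⟩
  have hle : f ⁻¹ᵁ V ≤ U := fun z hz => by
    obtain ⟨w, hw, hwz⟩ := hz
    exact hf.bijective.1 hwz ▸ hw
  exact ⟨V, AmpleLib.res L hle t, ⟨x, hxU, rfl⟩, ht.res hle⟩

theorem exists_rel_of_isInvertible (hf : IsHomeomorph f.base) {L : X₀.Modules} (hL : PicF.IsInvertible L) :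
    ∃ c, Rel f L c :=
  exists_rel f (LocTriv.of_isInvertible hf hL)

/-- The class map on the Picard group. -/
def picEquiv (hf : IsHomeomorph f.base) [PicGrp.Law X₀] : Additive (PicLoc.PicSet X₀) ≃+ H1 f := by
  choose L hL hc using fun c : PicLoc.PicSet X₀ => PicGrp.exists_eq_cls c
  choose φ hφ using fun c : PicLoc.PicSet X₀ => exists_rel_of_isInvertible hf (hL c)
  refine AddEquiv.ofBijective (AddMonoidHom.mk' (fun c => φ c.toMul) fun a b => ?_) ⟨fun a b h => ?_, fun d => ?_⟩
  · obtain ⟨i⟩ : Nonempty (L (a + b).toMul ≅ CohB1.tensorMod (L a.toMul) (L b.toMul)) := by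
      rw [← PicGrp.cl_eq_cl_iff, ← PicGrp.cls_mul_cls_val (hL _) (hL _), ← hc, ← hc, ← PicGrp.cls_val _ (hL _),
        ← hc]
      rfl
    exact ((hφ _).of_iso f i).unique f ((hφ _).tensor (hφ _))
  · have h2 := (hφ a.toMul).iso_of_eq (((show φ a.toMul = φ b.toMul from h) ▸ hφ b.toMul))
    exact Additive.toMul.injective ((hc _).trans (((PicGrp.cls_eq_cls_iff _ _).mpr h2).trans (hc _).symm))
  · obtain ⟨M, hM⟩ := exists_module_rel f d
    refine ⟨Additive.ofMul (PicGrp.cls M hM.isInvertible), ?_⟩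
    obtain ⟨i⟩ := (PicGrp.cls_eq_cls_iff _ _).mp (hc (PicGrp.cls M hM.isInvertible)).symm
    exact ((hφ _).of_iso f i).unique f hM

theorem picEquiv_rel (hf : IsHomeomorph f.base) [PicGrp.Law X₀] {L : X₀.Modules} (hL : PicF.IsInvertible L) :
    Rel f L (picEquiv hf (Additive.ofMul (PicGrp.cls L hL))) := by
  obtain ⟨c, hc⟩ := exists_rel_of_isInvertible hf hL
  suffices h : picEquiv hf (Additive.ofMul (PicGrp.cls L hL)) = c by rw [h]; exact hc
  unfold picEquiv
  set c' := PicGrp.cls L hL with hc'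
  obtain ⟨i⟩ := (PicGrp.cls_eq_cls_iff hL _).mp
    ((Classical.choose_spec (Classical.choose_spec (PicGrp.exists_eq_cls c'))) : c' = _)
  exact ((Classical.choose_spec (exists_rel_of_isInvertible hf
    (Classical.choose (Classical.choose_spec (PicGrp.exists_eq_cls c'))))).of_iso f i.symm).unique f hc

/-- Units pushed forward along the identity. -/
def idIso (X : Scheme.{u}) : UnitsSh.unitsAb X ≅ A (𝟙 X) where
  hom := ⟨{ app := fun _ => 𝟙 _, naturality := fun _ _ _ => rfl }⟩
  inv := ⟨{ app := fun _ => 𝟙 _, naturality := fun _ _ _ => rfl }⟩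

/-- `H¹(X, O^×)` as the group used here. -/
def h1Equiv (X : Scheme.{u}) : CohTop.H (UnitsSh.unitsAb X) 1 ≃+ H1 (𝟙 X) :=
  (QCohLib.hEquiv (UnitsSh.unitsAb X) 1).trans
    (AddEquiv.mk
      { toFun := fun x => x.comp (Abelian.Ext.mk₀ (idIso X).hom) (add_zero 1)
        invFun := fun x => x.comp (Abelian.Ext.mk₀ (idIso X).inv) (add_zero 1)
        left_inv := fun x => by simp
        right_inv := fun x => by simp }
      (fun x y => Abelian.Ext.add_comp _ _ _ (add_zero 1)))

theorem isHomeomorph_id (X : Scheme.{u}) : IsHomeomorph (𝟙 X : X ⟶ X).base :=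
  Homeomorph.isHomeomorph (Homeomorph.refl X)

end PicH1Lib
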