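import Groth.Agent.PicH1Lib.Rel
import Groth.Agent.NormDescLib.Cocycle

/-!
# Every class comes from a line bundle

The module attached to local discontinuous units `u i` with regular ratios consists of the tuples `a`
of functions with `a j * u j = a i * u i` in every stalk.
-/

set_option autoImplicit false
set_option linter.style.haveILetI false
universe u

open CategoryTheory CategoryTheory.Limits AlgebraicGeometry TopologicalSpace Opposite
open DevissLib
open AmpleLib (res GenAt GenOn)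
open DiscExtLib (triv cut cut_le cut_le_left cut_mono le_cut)
open NormDescLib (tuples tc rY tc_res tc_smul tc_zero exists_tuple tuple_ext)

noncomputable section

namespace PicH1Lib

variable {X : Scheme.{u}} {ι : Type u} (W : ι → X.Opens)
  (v : ∀ i (x : X), x ∈ W i → (X.presheaf.stalk x)ˣ)

/-- The tuples transforming by the ratios of the `v i`. -/
def ratioSub : QCohLib.LocSub (tuples W) where
  mem U a := ∀ i j (x : X) (hi : x ∈ cut (W i) U) (hj : x ∈ cut (W j) U),
    X.presheaf.germ (cut (W j) U) x hj (tc W j a) * (v j x (cut_le_left _ _ hj)).1 =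
      X.presheaf.germ (cut (W i) U) x hi (tc W i a) * (v i x (cut_le_left _ _ hi)).1
  zero U i j x hi hj := by simp [tc_zero]
  add {U a b} ha hb i j x hi hj := by
    have e : ∀ k, tc W k (a + b) = tc W k a + tc W k b := fun k =>
      map_add ((Pi.π (fun i => triv (W i)) k).app U).hom a b
    rw [e, e, map_add, map_add, add_mul, add_mul, ha i j x hi hj, hb i j x hi hj]
  smul {U} r {a} ha i j x hi hj := by
    rw [tc_smul, tc_smul, map_mul, map_mul, TopCat.Presheaf.germ_res_apply, TopCat.Presheaf.germ_res_apply,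
      mul_assoc, mul_assoc, ha i j x hi hj]
  res {U U'} h {a} ha i j x hi hj := by
    show X.presheaf.germ _ x hj (tc W j (res (tuples W) h a)) * _ =
      X.presheaf.germ _ x hi (tc W i (res (tuples W) h a)) * _
    rw [tc_res, tc_res, TopCat.Presheaf.germ_res_apply, TopCat.Presheaf.germ_res_apply]
    exact ha i j x _ _
  local' {U} a ha i j x hi hj := by
    obtain ⟨U', h, hxU', hm⟩ := ha x (cut_le _ _ hi)
    have h1 := hm i j x (le_cut _ _ ⟨hxU', cut_le_left _ _ hi⟩) (le_cut _ _ ⟨hxU', cut_le_left _ _ hj⟩)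
    change X.presheaf.germ _ x _ (tc W j (res (tuples W) h a)) * _ =
      X.presheaf.germ _ x _ (tc W i (res (tuples W) h a)) * _ at h1
    rw [tc_res, tc_res, TopCat.Presheaf.germ_res_apply, TopCat.Presheaf.germ_res_apply] at h1
    exact h1

variable {W v}

/-- The module with generators on the `W i` whose ratios are those of the `v i`. -/
theorem exists_module_of_units
    (hr : ∀ i j, ∃ a : Γ(X, W i ⊓ W j), ∀ x (hx : x ∈ W i ⊓ W j),
      X.presheaf.germ (W i ⊓ W j) x hx a * (v j x hx.2).1 = (v i x hx.1).1) :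
    ∃ (M : X.Modules) (t : ∀ i, Γ(M, W i)), (∀ i, GenOn M (t i)) ∧
      ∀ i j (x : X) (hi : x ∈ W i) (hj : x ∈ W j),
        (v j x hj).1 • gm M x hi (t i) = (v i x hi).1 • gm M x hj (t j) := by
  let S := ratioSub W v
  choose C hC using hr
  have hle : ∀ i k, cut (W k) (W i) ≤ W i ⊓ W k := fun i k => le_inf (cut_le _ _) (cut_le_left _ _)
  choose τ hτ using fun i => exists_tuple W (W := W i) fun k => rY (hle i k) (C i k)
  have hgτ : ∀ i k (x : X) (hk : x ∈ cut (W k) (W i)),
      X.presheaf.germ _ x hk (tc W k (τ i)) * (v k x (cut_le_left _ _ hk)).1 = (v i x (cut_le _ _ hk)).1 :=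
    fun i k x hk => by
      rw [hτ i k, TopCat.Presheaf.germ_res_apply]
      exact hC i k x (hle i k hk)
  have hmem : ∀ i, S.mem (W i) (τ i) := fun i k l x hk hl => (hgτ i l x hl).trans (hgτ i k x hk).symm
  let t : ∀ i, Γ(S.toModules, W i) := fun i => S.lift (τ i) (hmem i)
  have hι : ∀ i (U : X.Opens) (h : U ≤ W i) (r : Γ(X, U)),
      S.ι.app U (r • res S.toModules h (t i)) = r • res (tuples W) h (τ i) := fun i U h r => by
    rw [QCohLib.app_smul, show S.ι.app U (res S.toModules h (t i)) = res (tuples W) h (S.ι.app (W i) (t i)) from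
      QCohLib.app_map S.ι (homOfLE h) (t i), S.ι_lift]
  refine ⟨S.toModules, t, fun i U hU => ⟨fun r r' e => ?_, fun s => ?_⟩, fun i j x hi hj => ?_⟩
  · dsimp only at e
    have e1 := congrArg (tc W i) ((hι i U hU r).symm.trans ((congrArg (S.ι.app U) e).trans (hι i U hU r')))
    refine TopCat.Presheaf.section_ext X.sheaf U r r' fun x hx => ?_
    have hxc : x ∈ cut (W i) U := le_cut _ _ ⟨hx, hU hx⟩
    have e2 := congrArg (X.presheaf.germ _ x hxc) e1
    rw [tc_smul, tc_smul, map_mul, map_mul, TopCat.Presheaf.germ_res_apply, TopCat.Presheaf.germ_res_apply] at e2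
    have hu : IsUnit (X.presheaf.germ _ x hxc (tc W i (res (tuples W) hU (τ i)))) := by
      rw [tc_res, TopCat.Presheaf.germ_res_apply]
      refine IsUnit.of_mul_eq_one (1 : X.presheaf.stalk x) ?_
      have h1 := hgτ i i x (le_cut _ _ ⟨hU hx, hU hx⟩)
      rw [mul_one]
      exact (Units.mul_left_inj (v i x _)).mp (h1.trans (one_mul _).symm)
    exact hu.mul_left_inj.mp e2
  · have hs := S.ι_app_mem s
    have hcut : U ≤ cut (W i) U := (le_inf le_rfl hU).trans (le_cut _ _)
    let r : Γ(X, U) := rY hcut (tc W i (S.ι.app U s))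
    refine ⟨r, S.ι_app_injective _ ?_⟩
    rw [hι]
    refine tuple_ext W fun k => TopCat.Presheaf.section_ext X.sheaf _ _ _ fun x hx => ?_
    refine (Units.mul_left_inj (v k x (cut_le_left _ _ hx))).mp ?_
    show X.presheaf.germ _ x hx _ * _ = X.presheaf.germ _ x hx _ * _
    rw [hs i k x (hcut (cut_le _ _ hx)) hx]
    simp only [r, rY, tc_smul, tc_res, map_mul, TopCat.Presheaf.germ_res_apply]
    rw [mul_assoc, hgτ i k x (cut_mono _ hU hx)]
  · obtain ⟨U, hxU, hUi, hUj⟩ : ∃ U : X.Opens, x ∈ U ∧ U ≤ W i ∧ U ≤ W j :=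
      ⟨W i ⊓ W j, ⟨hi, hj⟩, inf_le_left, inf_le_right⟩
    have hji : W i ⊓ W j ≤ cut (W j) (W i) := le_cut _ _
    have hkey : res S.toModules (inf_le_left : W i ⊓ W j ≤ W i) (t i) =
        (C i j : Γ(X, W i ⊓ W j)) • res S.toModules (inf_le_right : W i ⊓ W j ≤ W j) (t j) := by
      refine S.ι_app_injective _ ?_
      rw [hι, ← one_smul Γ(X, W i ⊓ W j) (res S.toModules inf_le_left (t i)), hι, one_smul]
      refine tuple_ext W fun k => TopCat.Presheaf.section_ext X.sheaf _ _ _ fun y hy => ?_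
      refine (Units.mul_left_inj (v k y (cut_le_left _ _ hy))).mp ?_
      show X.presheaf.germ _ y hy _ * _ = X.presheaf.germ _ y hy _ * _
      rw [tc_res, TopCat.Presheaf.germ_res_apply, hgτ i k y (cut_mono _ inf_le_left hy), tc_smul, tc_res, map_mul,
        TopCat.Presheaf.germ_res_apply, TopCat.Presheaf.germ_res_apply, mul_assoc,
        hgτ j k y (cut_mono _ inf_le_right hy), hC i j y (cut_le _ _ hy)]
    have hg := congrArg (gm S.toModules x (show x ∈ W i ⊓ W j from ⟨hi, hj⟩)) hkey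
    rw [gm_smul, gm_map, gm_map] at hg
    rw [hg, smul_smul, mul_comm, hC i j x ⟨hi, hj⟩]

/-- Every class is the class of a line bundle. -/
theorem exists_module_rel {X₀ X' : Scheme.{u}} (f : X₀ ⟶ X') (c : H1 f) :
    ∃ L : X₀.Modules, Rel f L c := by
  obtain ⟨q, rfl⟩ := cls_surjective f c
  choose V hVT u hy hu using fun y : X' => exists_local_lift f q y trivial
  have hr : ∀ i j, ∃ a : Γ(X₀, f ⁻¹ᵁ V i ⊓ f ⁻¹ᵁ V j), ∀ x (hx : x ∈ f ⁻¹ᵁ V i ⊓ f ⁻¹ᵁ V j),
      X₀.presheaf.germ _ x hx a * (Additive.toMul (u j ⟨x, hx.2⟩)).1 = (Additive.toMul (u i ⟨x, hx.1⟩)).1 := by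
    intro i j
    have h1 : piQ f (V i ⊓ V j) (rG f inf_le_left (u i) - rG f inf_le_right (u j)) = 0 := by
      rw [map_sub, piQ_rG f (inf_le_left : V i ⊓ V j ≤ V i), piQ_rG f (inf_le_right : V i ⊓ V j ≤ V j), hu i, hu j, rQ_rQ, rQ_rQ, sub_self]
    obtain ⟨a, ha⟩ := (piQ_eq_zero_iff f _ _).mp h1
    refine ⟨(a : Γ(X₀, f ⁻¹ᵁ (V i ⊓ V j))), fun x hx => ?_⟩
    have h2 := congrArg Additive.toMul ((eq_add_of_sub_eq (congr_fun ha ⟨x, hx⟩).symm) :
      u i ⟨x, hx.1⟩ = jA f (V i ⊓ V j) a ⟨x, hx⟩ + u j ⟨x, hx.2⟩)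
    rw [h2]
    rfl
  obtain ⟨M, t, ht, hcomp⟩ := exists_module_of_units (W := fun y => f ⁻¹ᵁ V y)
    (v := fun i x hx => Additive.toMul (u i ⟨x, hx⟩)) hr
  have hfr : ∀ x : X₀, SGen M x ((Additive.toMul (u (f x) ⟨x, hy (f x)⟩))⁻¹.1 •
      gm M x (show x ∈ f ⁻¹ᵁ V (f x) from hy (f x)) (t (f x))) :=
    fun x => (sgen_gm (ht _) _).smul _
  refine ⟨M, fun y => ⟨V y, t y, hy y, ht y⟩, ⟨_, hfr⟩, q,
    isQ_of_cover f V (fun y => ⟨y, hy y⟩) t ht ⟨_, hfr⟩ u (fun y x => ?_) (fun y => ?_), rfl⟩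
  · show (Additive.toMul (u y x)).1 • _ • gm M x.1 _ (t (f x.1)) = _
    rw [smul_smul, mul_comm, ← smul_smul, hcomp (f x.1) y x.1 (hy (f x.1)) x.2, smul_smul, Units.inv_mul, one_smul]
  · exact (hu y).symm

end PicH1Lib
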