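import Groth.Agent.PicH1Lib.Pic
import Groth.Agent.KFlatLib.PullTensor
import Mathlib.Algebra.Homology.DerivedCategory.Ext.ExtClass

/-!
# Naturality of the class of a line bundle
-/

set_option autoImplicit false
set_option linter.style.haveILetI false
universe u

open CategoryTheory CategoryTheory.Limits AlgebraicGeometry TopologicalSpace Opposite CategoryTheory.Abelian
open DevissLib
open QCohLib (pf)
open AmpleLib (GenOn)
open KFlatLib (pb puSec)

noncomputable section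

namespace PicH1Lib

variable {X₀ X' : Scheme.{u}} (i : X₀ ⟶ X')

/-- Restriction of units. -/
def τ₁ : A (𝟙 X') ⟶ A i :=
  ⟨{ app := fun V => (UnitsSh.comap i).hom.app V
     naturality := fun _ _ g => (UnitsSh.comap i).hom.naturality g }⟩

theorem τ₁_app (V : X'.Opens) (s : (A (𝟙 X')).obj.obj (op V)) :
    UnitsSh.unitOfSect ((τ₁ i).hom.app (op V) s : (UnitsSh.unitsAb X₀).obj.obj (op (i ⁻¹ᵁ V))) =
      Units.map (i.app V).hom.toMonoidHom (UnitsSh.unitOfSect (s : (UnitsSh.unitsAb X').obj.obj (op V))) := rfl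

/-- Restriction of discontinuous units. -/
def τ₂ : (pf (𝟙 X' : X' ⟶ X').base).obj (gSh X') ⟶ (pf i.base).obj (gSh X₀) :=
  ⟨{ app := fun V => AddCommGrpCat.ofHom
      (AddMonoidHom.pi fun x : (i ⁻¹ᵁ V.unop : X₀.Opens) =>
        ((Units.map (i.stalkMap x.1).hom.toMonoidHom).toAdditive).comp
          (Pi.evalAddMonoidHom (fun z : V.unop => Additive (X'.presheaf.stalk z.1)ˣ) ⟨i x.1, x.2⟩))
     naturality := fun _ _ _ => rfl }⟩

theorem comm₁ : τ₁ i ≫ (pf i.base).map (gι X₀) = (pf (𝟙 X' : X' ⟶ X').base).map (gι X') ≫ τ₂ i := by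
  refine ObjectProperty.hom_ext _ (NatTrans.ext (funext fun V => ConcreteCategory.hom_ext _ _ fun s => funext fun x => ?_))
  refine Additive.toMul.injective (Units.ext ?_)
  exact (Scheme.Hom.germ_stalkMap_apply i V.unop x.1 x.2
    (uVal (X := X') (U := V.unop) (s : (UnitsSh.unitsAb X').obj.obj V))).symm

/-- Restriction, as a map of the defining sequences. -/
def seqMap : S (𝟙 X') ⟶ S i where
  τ₁ := τ₁ i
  τ₂ := τ₂ i
  τ₃ := cokernel.map _ _ (τ₁ i) (τ₂ i) (comm₁ i).symm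
  comm₁₂ := comm₁ i
  comm₂₃ := (cokernel.π_desc _ _ _).symm

/-- Restriction on the cohomology of units. -/
def H1map : H1 (𝟙 X') →+ H1 i := (Ext.mk₀ (τ₁ i)).postcomp (QCohLib.zsh ⊤) (add_zero 1)

theorem H1map_apply (c : H1 (𝟙 X')) : H1map i c = c.comp (Ext.mk₀ (τ₁ i)) (add_zero 1) := rfl

/-- Restriction on the cokernels. -/
def τQ (V : X'.Opens) : QSec (𝟙 X') V →+ QSec i V := ((seqMap i).τ₃.hom.app (op V)).hom

theorem τQ_piQ (V : X'.Opens) (w : GSec (𝟙 X') V) :
    τQ i V (piQ (𝟙 X') V w) = piQ i V (fun x => Additive.ofMul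
      (Units.map (i.stalkMap x.1).hom.toMonoidHom (Additive.toMul (w ⟨i x.1, x.2⟩)))) :=
  (ConcreteCategory.congr_hom (congrArg (fun t => t.hom.app (op V)) (seqMap i).comm₂₃) w).symm

theorem τQ_rQ {V W : X'.Opens} (h : W ≤ V) (q : QSec (𝟙 X') V) :
    τQ i W (rQ (𝟙 X') h q) = rQ i h (τQ i V q) :=
  ConcreteCategory.congr_hom ((seqMap i).τ₃.hom.naturality (homOfLE h).op) q

theorem H1map_cls (q : QSec (𝟙 X') ⊤) : H1map i (cls (𝟙 X') q) = cls i (τQ i ⊤ q) := by
  have h0' : QCohLib.h0.symm (τQ i ⊤ q) = (QCohLib.h0.symm q).comp (Ext.mk₀ (seqMap i).τ₃) (add_zero 0) := by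
    rw [AddEquiv.symm_apply_eq, QCohLib.h0_comp, AddEquiv.apply_symm_apply]
    rfl
  show ((QCohLib.h0.symm q).comp (S_shortExact (𝟙 X')).extClass (zero_add 1)).comp (Ext.mk₀ (seqMap i).τ₁) (add_zero 1) =
    (QCohLib.h0.symm (τQ i ⊤ q)).comp (S_shortExact i).extClass (zero_add 1)
  rw [h0', Ext.comp_assoc_of_second_deg_zero, Ext.comp_assoc_of_third_deg_zero,
    ShortComplex.ShortExact.extClass_naturality (S_shortExact (𝟙 X')) (S_shortExact i) (seqMap i)]

/-- The pullback of a germ. -/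
def puSt (M : X'.Modules) (x : X₀) (a : (St (i x)).obj M) : (St x).obj (pb i M) :=
  letI := (i.stalkMap x).hom.toAlgebra
  ((KFlatLib.stalkPullIso i x).inv.app M).hom ((1 : X₀.presheaf.stalk x) ⊗ₜ[X'.presheaf.stalk (i x)] a)

theorem puSt_gm (M : X'.Modules) (x : X₀) {U : X'.Opens} (hU : i x ∈ U) (m : Γ(M, U)) :
    puSt i M x (gm M (i x) hU m) = gm (pb i M) x (show x ∈ i ⁻¹ᵁ U from hU) (puSec i m) :=
  KFlatLib.stalkPullInv_germ i M x hU m

theorem puSt_smul (M : X'.Modules) (x : X₀) (c : X'.presheaf.stalk (i x)) (a : (St (i x)).obj M) :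
    puSt i M x (c • a) = i.stalkMap x c • puSt i M x a := by
  letI := (i.stalkMap x).hom.toAlgebra
  have h : ((1 : X₀.presheaf.stalk x) ⊗ₜ[X'.presheaf.stalk (i x)] (c • a)) =
      (i.stalkMap x c) • ((1 : X₀.presheaf.stalk x) ⊗ₜ[X'.presheaf.stalk (i x)] a) := by
    rw [TensorProduct.tmul_smul, TensorProduct.smul_tmul', TensorProduct.smul_tmul', Algebra.smul_def, smul_eq_mul]
    rfl
  exact (congrArg ((KFlatLib.stalkPullIso i x).inv.app M).hom h).trans
    (((KFlatLib.stalkPullIso i x).inv.app M).hom.map_smul _ _)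

theorem sgen_puSt {M : X'.Modules} {x : X₀} {a : (St (i x)).obj M} (ha : SGen M (i x) a) :
    SGen (pb i M) x (puSt i M x a) := by
  letI := (i.stalkMap x).hom.toAlgebra
  let ψ := ((KFlatLib.stalkPullIso i x).inv.app M).hom
  have hψ : Function.Bijective ψ := ConcreteCategory.bijective_of_isIso ((KFlatLib.stalkPullIso i x).inv.app M)
  have h1 := @TwistLib.bijective_smul_one_tmul (X'.presheaf.stalk (i x)) (X₀.presheaf.stalk x) _ _ _
    ((DerSch.stalkFunctor X' (i x)).obj M) _ _ a ha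
  exact Eq.mp (congrArg Function.Bijective (funext fun c => ψ.map_smul c _)) (hψ.comp h1)

variable {i}

/-- The class of a pullback is the restriction of the class. -/
theorem Rel.pullback {L : X'.Modules} {c : H1 (𝟙 X')} (h : Rel (𝟙 X') L c) :
    Rel i (pb i L) (H1map i c) := by
  obtain ⟨hL, e, q, hq, rfl⟩ := h
  choose V t hy ht using hL
  choose u hu using fun y => exists_isCoord (𝟙 X') e (ht y)
  let e' : Frame (pb i L) := ⟨fun x => puSt i L x (e.1 (i x)), fun x => sgen_puSt i (e.2 (i x))⟩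
  have hgen : ∀ y, GenOn (pb i L) (W := i ⁻¹ᵁ V y) (puSec i (t y)) := fun y =>
    TwistLib.genOn_of_genAt fun x hx => TwistLib.GenAt.puSec i ((ht y).genAt hx)
  refine ⟨fun y => ⟨V y, puSec i (t y), hy y, hgen y⟩, e', τQ i ⊤ q,
    isQ_of_cover i V (fun y => ⟨y, hy y⟩) (fun y => puSec i (t y)) hgen e'
      (fun y x => Additive.ofMul (Units.map (i.stalkMap x.1).hom.toMonoidHom (Additive.toMul (u y ⟨i x.1, x.2⟩))))
      (fun y x => ?_) (fun y => ?_), (H1map_cls i q).symm⟩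
  · refine (puSt_smul i L x.1 _ _).symm.trans ((congrArg (puSt i L x.1) (hu y ⟨i x.1, x.2⟩)).trans ?_)
    exact puSt_gm i L x.1 _ (t y)
  · rw [← τQ_rQ, hq _ _ _ (ht y) (hu y), τQ_piQ]

end PicH1Lib
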