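import Groth.Agent.PicH1Lib.FlatIdeal
import Groth.Agent.PicH1Lib.SqLES

/-!
# The sequence of ideals of nested closed immersions
-/

set_option autoImplicit false
set_option linter.style.haveILetI false
universe u

open CategoryTheory CategoryTheory.Limits AlgebraicGeometry TopologicalSpace Opposite

noncomputable section

namespace PicH1Lib

variable {Z W T : Scheme.{u}} (j : W ⟶ T) [IsClosedImmersion j] (t : Z ⟶ W) [IsClosedImmersion t]

omit [IsClosedImmersion t] in
/-- The kernel, read on sections. -/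
theorem app_eq_zero_iff {V : T.Opens} (b : Γ(T, V)) : j.app V b = 0 ↔ j.ker.subschemeι.app V b = 0 := by
  have h : j.toImage.app (j.ker.subschemeι ⁻¹ᵁ V) (j.ker.subschemeι.app V b) =
      W.presheaf.map (eqToHom (congrArg (fun φ : W ⟶ T => φ ⁻¹ᵁ V) j.toImage_imageι)).op (j.app V b) :=
    ((ConcreteCategory.congr_hom (Scheme.Hom.comp_app j.toImage j.ker.subschemeι V) b).trans (CommRingCat.comp_apply _ _ _)).symm.trans
      ((ConcreteCategory.congr_hom (Scheme.Hom.congr_app j.toImage_imageι V) b).trans (CommRingCat.comp_apply _ _ _))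
  refine ⟨fun hb => ?_, fun hb => ?_⟩
  · have h1 : j.toImage.app (j.ker.subschemeι ⁻¹ᵁ V) (j.ker.subschemeι.app V b) = 0 := by
      refine h.trans ?_
      rw [hb]
      exact map_zero _
    exact (ConcreteCategory.bijective_of_isIso (j.toImage.app (j.ker.subschemeι ⁻¹ᵁ V))).injective
      (h1.trans (map_zero _).symm)
  · exact (ConcreteCategory.bijective_of_isIso (W.presheaf.map (eqToHom (congrArg (fun φ : W ⟶ T => φ ⁻¹ᵁ V) j.toImage_imageι)).op)).injective
      ((h.symm.trans (by rw [hb, map_zero])).trans (map_zero _).symm)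

omit [IsClosedImmersion j] [IsClosedImmersion t] in
/-- Sections along a composite. -/
theorem app_comp_apply {V : T.Opens} (b : Γ(T, V)) : (t ≫ j).app V b = t.app (j ⁻¹ᵁ V) (j.app V b) :=
  (ConcreteCategory.congr_hom (Scheme.Hom.comp_app t j V) b).trans (CommRingCat.comp_apply _ _ _)

omit [IsClosedImmersion j] [IsClosedImmersion t] in
/-- Vanishing passes to the smaller subscheme. -/
theorem app_comp_eq_zero {V : T.Opens} (b : Γ(T, V)) (hb : j.app V b = 0) : (t ≫ j).app V b = 0 :=
  (app_comp_apply j t b).trans (by rw [hb]; exact map_zero _)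

/-- The smaller ideal in the larger one. -/
def nestedInc : ClSub.idealMod j.ker ⟶ ClSub.idealMod (t ≫ j).ker :=
  kernel.lift _ (ClSub.idealModι j.ker) (Scheme.Modules.hom_ext _ _ fun V => AddCommGrpCat.ext fun m =>
    (app_eq_zero_iff (t ≫ j) _).mp (app_comp_eq_zero j t _ ((app_eq_zero_iff j _).mpr (app_idVal j.ker m))))

/-- The larger ideal, on the bigger subscheme. -/
def nestedRes : ClSub.idealMod (t ≫ j).ker ⟶ (Scheme.Modules.pushforward j).obj (ClSub.idealMod t.ker) :=
  (isLimitOfHasKernelOfPreservesLimit (Scheme.Modules.pushforward j) (ClSub.toSubscheme t.ker)).lift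
    (KernelFork.ofι (ClSub.idealModι (t ≫ j).ker ≫ ClSub.unitToPush j) (Scheme.Modules.hom_ext _ _ fun V =>
      AddCommGrpCat.ext fun m => (app_eq_zero_iff t (j.app V (idVal (t ≫ j).ker m))).mp 
        ((app_comp_apply j t (idVal (t ≫ j).ker m)).symm.trans
          ((app_eq_zero_iff (t ≫ j) (idVal (t ≫ j).ker m)).mpr (app_idVal (t ≫ j).ker m)))))

@[reassoc]
theorem nestedInc_ι : nestedInc j t ≫ ClSub.idealModι (t ≫ j).ker = ClSub.idealModι j.ker := kernel.lift_ι _ _ _

@[reassoc]
theorem nestedRes_ι : nestedRes j t ≫ (Scheme.Modules.pushforward j).map (ClSub.idealModι t.ker) =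
    ClSub.idealModι (t ≫ j).ker ≫ ClSub.unitToPush j :=
  Fork.IsLimit.lift_ι _

theorem idVal_nestedRes {V : T.Opens} (m : Γ(ClSub.idealMod (t ≫ j).ker, V)) :
    idVal t.ker (V := j ⁻¹ᵁ V) ((nestedRes j t).app V m) = j.app V (idVal (t ≫ j).ker m) :=
  ConcreteCategory.congr_hom (congrArg (fun φ => Scheme.Modules.Hom.app φ V) (nestedRes_ι j t)) m

theorem nested_zero : nestedInc j t ≫ nestedRes j t = 0 := by
  refine Scheme.Modules.hom_ext _ _ fun V => AddCommGrpCat.ext fun m => ?_
  refine idVal_injective t.ker (j ⁻¹ᵁ V) ?_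
  show idVal t.ker ((nestedRes j t).app V ((nestedInc j t).app V m)) = idVal t.ker 0
  rw [idVal_nestedRes]
  refine Eq.trans ?_ (map_zero ((ClSub.idealModι t.ker).app (j ⁻¹ᵁ V)).hom).symm
  have h : idVal (t ≫ j).ker ((nestedInc j t).app V m) = idVal j.ker m :=
    ConcreteCategory.congr_hom (congrArg (fun φ => Scheme.Modules.Hom.app φ V) (nestedInc_ι j t)) m
  rw [h]
  exact (app_eq_zero_iff j _).mpr (app_idVal j.ker m)

/-- `0 → I_W → I_Z → j_* I_{Z/W} → 0`. -/
def nestedSeq : ShortComplex T.Modules := ShortComplex.mk _ _ (nested_zero j t)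

theorem nestedSeq_shortExact : (nestedSeq j t).ShortExact := by
  have hmono : Mono (nestedInc j t) := by
    haveI : Mono (nestedInc j t ≫ ClSub.idealModι (t ≫ j).ker) := by
      rw [nestedInc_ι]
      exact inferInstanceAs (Mono (kernel.ι _))
    exact mono_of_mono _ (ClSub.idealModι (t ≫ j).ker)
  refine { exact := ?_, mono_f := hmono, epi_g := ?_ }
  · haveI := hmono
    haveI : Mono (nestedSeq j t).f := hmono
    refine ShortComplex.exact_of_f_is_kernel _ (KernelFork.IsLimit.ofι' _ _ fun {A} k hk =>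
      ⟨kernel.lift _ (k ≫ ClSub.idealModι (t ≫ j).ker) (Scheme.Modules.hom_ext _ _ fun V => AddCommGrpCat.ext fun a => ?_), ?_⟩)
    · refine (app_eq_zero_iff j _).mp ?_
      have h : (nestedRes j t).app V (k.app V a) = 0 :=
        ConcreteCategory.congr_hom (congrArg (fun φ => Scheme.Modules.Hom.app φ V) hk) a
      have h1 := idVal_nestedRes j t (k.app V a)
      rw [h] at h1
      exact h1.symm.trans (map_zero ((ClSub.idealModι t.ker).app (j ⁻¹ᵁ V)).hom)
    · haveI : Mono (ClSub.idealModι (t ≫ j).ker) := inferInstanceAs (Mono (kernel.ι _))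
      exact (cancel_mono (ClSub.idealModι (t ≫ j).ker)).mp
        ((Category.assoc _ (nestedInc j t) _).trans ((whisker_eq _ (nestedInc_ι j t)).trans (kernel.lift_ι _ _ _)))
  · refine QCohLib.epi_of_surjective_on_affines _ fun V s p hp => ?_
    obtain ⟨U, hU, hpU, hUV⟩ := exists_isAffineOpen_mem_and_subset hp
    refine ⟨U, hUV, hpU, ?_⟩
    let s' : Γ((Scheme.Modules.pushforward j).obj (ClSub.idealMod t.ker), U) :=
      ((Scheme.Modules.pushforward j).obj (ClSub.idealMod t.ker)).presheaf.map (homOfLE hUV).op s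
    obtain ⟨b, hb⟩ := j.app_surjective U hU (idVal t.ker (V := j ⁻¹ᵁ U) s')
    have hb0 : (t ≫ j).ker.subschemeι.app U b = 0 := by
      refine (app_eq_zero_iff (t ≫ j) b).mp ?_
      rw [app_comp_apply, hb]
      exact (app_eq_zero_iff t _).mpr (app_idVal t.ker s')
    obtain ⟨m, hm⟩ := exists_idVal (t ≫ j).ker hb0
    refine ⟨m, idVal_injective t.ker (j ⁻¹ᵁ U) ?_⟩
    exact (idVal_nestedRes j t m).trans ((congrArg (j.app U) hm).trans hb)

/-- Vanishing of the cohomology of the ideal of `Z` in `W`. -/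
theorem subsingleton_HH_nested (q : ℕ) (h : Subsingleton (Coh.HH T (ClSub.idealMod (t ≫ j).ker) q))
    (h' : Subsingleton (Coh.HH T (ClSub.idealMod j.ker) (q + 1))) :
    Subsingleton (Coh.HH W (ClSub.idealMod t.ker) q) := by
  haveI : Coh.IsQCoh (ClSub.idealMod t.ker) := SweepSix.ConormalSpec.isQCoh_idealMod t.ker
  haveI : Subsingleton (QCohLib.HU ((QCohLib.toAbF T).obj (ClSub.idealMod (t ≫ j).ker)) q ⊤) :=
    (hI' (t ≫ j).ker q).symm.injective.subsingleton
  haveI : Subsingleton (QCohLib.HU ((QCohLib.toAbF T).obj (ClSub.idealMod j.ker)) (q + 1) ⊤) :=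
    (hI' j.ker (q + 1)).symm.injective.subsingleton
  haveI h3 : Subsingleton (QCohLib.HU ((nestedSeq j t).map (QCohLib.toAbF T)).X₃ q ⊤) := by
    have : Subsingleton (QCohLib.HU ((nestedSeq j t).map (QCohLib.toAbF T)).X₂ q ⊤) := ‹_›
    have : Subsingleton (QCohLib.HU ((nestedSeq j t).map (QCohLib.toAbF T)).X₁ (q + 1) ⊤) := ‹_›
    exact QCohLib.subsingleton_X₃ (QCohLib.toAbF_shortExact (nestedSeq_shortExact j t))
  haveI : Subsingleton (QCohLib.HU ((QCohLib.toAbF T).obj ((Scheme.Modules.pushforward j).obj (ClSub.idealMod t.ker))) q ⊤) := h3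
  haveI : Subsingleton (Coh.HH T ((Coh.push j).obj (ClSub.idealMod t.ker)) q) :=
    (QCohLib.hEquiv ((QCohLib.toAbF T).obj ((Scheme.Modules.pushforward j).obj (ClSub.idealMod t.ker))) q).injective.subsingleton
  exact (Groth.Agent.S0012.result j (ClSub.idealMod t.ker) q).some.injective.subsingleton

end PicH1Lib
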