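import Groth.Agent.QCohLib.AbPush
import Groth.Agent.CechLib.Cartan
import Groth.Prelude.Def_UnitsSh
import Mathlib.Topology.Sheaves.SheafOfFunctions
import Mathlib.Topology.Sheaves.Flasque

/-!
# The units inside the discontinuous units, pushed forward

For a morphism `f : X₀ ⟶ X'` the sheaf `A f = f_*(O_{X₀}^×)` embeds into a flasque sheaf, which computes its
first cohomology as a cokernel of global sections.
-/

set_option autoImplicit false
set_option linter.style.haveILetI false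
universe u

open CategoryTheory CategoryTheory.Limits AlgebraicGeometry TopologicalSpace Opposite
open QCohLib (AbSh HU pf)

noncomputable section

namespace PicH1Lib

variable {X₀ X' : Scheme.{u}}

/-- Discontinuous units. -/
def gPre (X : Scheme.{u}) : (Opens X.toTopCat)ᵒᵖ ⥤ AddCommGrpCat.{u} where
  obj U := AddCommGrpCat.of (∀ x : U.unop, Additive (X.presheaf.stalk x.1)ˣ)
  map {U V} i := AddCommGrpCat.ofHom
    (AddMonoidHom.pi fun x : V.unop =>
      Pi.evalAddMonoidHom (fun y : U.unop => Additive (X.presheaf.stalk y.1)ˣ)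
        (⟨x.1, leOfHom i.unop x.2⟩ : U.unop))

/-- Discontinuous units, as a sheaf. -/
def gSh (X : Scheme.{u}) : AbSh X.toTopCat :=
  ⟨gPre X, (TopCat.Presheaf.isSheaf_iff_isSheaf_comp (forget AddCommGrpCat.{u})
    (gPre X)).mpr (TopCat.Presheaf.toTypes_isSheaf X.toTopCat fun x => Additive (X.presheaf.stalk x)ˣ)⟩

/-- The function underlying a unit section. -/
abbrev uVal {X : Scheme.{u}} {U : X.Opens} (s : (UnitsSh.unitsAb X).obj.obj (op U)) : Γ(X, U) :=
  (UnitsSh.unitOfSect s).1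

/-- The germs of a unit. -/
def gι (X : Scheme.{u}) : UnitsSh.unitsAb X ⟶ gSh X :=
  ⟨{ app := fun U => AddCommGrpCat.ofHom
      (AddMonoidHom.pi fun x : U.unop =>
        (Units.map (X.presheaf.germ U.unop x.1 x.2).hom.toMonoidHom).toAdditive)
     naturality := fun U V i => by
      refine ConcreteCategory.hom_ext _ _ fun s => funext fun x => ?_
      exact congrArg Additive.ofMul (Units.ext (TopCat.Presheaf.germ_res_apply X.presheaf i.unop x.1 x.2
        (uVal (U := U.unop) s))) }⟩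

theorem gι_app (X : Scheme.{u}) (U : X.Opens) (s : (UnitsSh.unitsAb X).obj.obj (op U)) (x : U) :
    ((gι X).hom.app (op U) s x).toMul.1 = X.presheaf.germ U x.1 x.2 (uVal s) := rfl

instance mono_gι (X : Scheme.{u}) : Mono (gι X) := by
  have : ∀ U, Mono ((gι X).hom.app U) := fun U => by
    rw [AddCommGrpCat.mono_iff_injective]
    intro s t h
    refine (UnitsSh.sectEquiv X.sheaf U.unop).injective (congrArg Additive.ofMul (Units.ext ?_))
    refine TopCat.Presheaf.section_ext X.sheaf U.unop _ _ fun x hx => ?_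
    exact congrArg (fun v => (Additive.toMul v).1) (congr_fun h (⟨x, hx⟩ : U.unop))
  have : Mono ((sheafToPresheaf _ _).map (gι X)) := NatTrans.mono_of_mono_app (gι X).hom
  exact (sheafToPresheaf _ _).mono_of_mono_map this

instance isFlasque_gSh (X : Scheme.{u}) : TopCat.Sheaf.IsFlasque (gSh X : TopCat.Sheaf AddCommGrpCat X.toTopCat) := by
  refine ⟨fun {U V} i => ?_⟩
  rw [AddCommGrpCat.epi_iff_surjective]
  classical
  intro s
  refine ⟨fun x => if h : x.1 ∈ V.unop then s ⟨x.1, h⟩ else 0, funext fun x => ?_⟩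
  exact dif_pos x.2

variable (f : X₀ ⟶ X')

/-- The units, pushed forward. -/
abbrev A : AbSh X'.toTopCat := (pf f.base).obj (UnitsSh.unitsAb X₀)

/-- The defining sequence. -/
abbrev S : ShortComplex (AbSh X'.toTopCat) :=
  ShortComplex.mk ((pf f.base).map (gι X₀)) (cokernel.π _) (cokernel.condition _)

instance mono_map_gι : Mono ((pf f.base).map (gι X₀)) := by
  haveI : (pf f.base).PreservesMonomorphisms :=
    CategoryTheory.Functor.preservesMonomorphisms_of_adjunction (TopCat.Sheaf.pullbackPushforwardAdjunction AddCommGrpCat.{u} f.base)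
  exact @Functor.map_mono _ _ _ _ (pf f.base) _ _ _ (gι X₀) (mono_gι X₀)

theorem S_shortExact : (S f).ShortExact where
  exact := ShortComplex.exact_of_g_is_cokernel _ (cokernelIsCokernel _)
  mono_f := inferInstanceAs (Mono ((pf f.base).map (gι X₀)))
  epi_g := inferInstanceAs (Epi (cokernel.π _))

/-- Discontinuous units on the source. -/
abbrev GSec (V : X'.Opens) : Type u := ∀ x : (f ⁻¹ᵁ V : X₀.Opens), Additive (X₀.presheaf.stalk x.1)ˣ

/-- Sections of the cokernel. -/
abbrev QSec (V : X'.Opens) : Type u := (S f).X₃.obj.obj (op V)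

/-- To the cokernel. -/
def piQ (V : X'.Opens) : GSec f V →+ QSec f V := ((S f).g.hom.app (op V)).hom

/-- Restriction of discontinuous units. -/
abbrev rG {V W : X'.Opens} (h : W ≤ V) (u : GSec f V) : GSec f W := fun x => u ⟨x.1, h x.2⟩

/-- Restriction in the cokernel. -/
abbrev rQ {V W : X'.Opens} (h : W ≤ V) (q : QSec f V) : QSec f W :=
  (S f).X₃.obj.map (homOfLE h).op q

theorem piQ_rG {V W : X'.Opens} (h : W ≤ V) (u : GSec f V) : piQ f W (rG f h u) = rQ f h (piQ f V u) :=
  ConcreteCategory.congr_hom ((S f).g.hom.naturality (homOfLE h).op) u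

theorem rQ_add {V W : X'.Opens} (h : W ≤ V) (q q' : QSec f V) : rQ f h (q + q') = rQ f h q + rQ f h q' :=
  map_add ((S f).X₃.obj.map (homOfLE h).op).hom q q'

theorem rQ_zero {V W : X'.Opens} (h : W ≤ V) : rQ f h (0 : QSec f V) = 0 :=
  map_zero ((S f).X₃.obj.map (homOfLE h).op).hom

theorem rQ_rQ {V W W' : X'.Opens} (h : W ≤ V) (h' : W' ≤ W) (q : QSec f V) :
    rQ f h' (rQ f h q) = rQ f (h'.trans h) q :=
  (ConcreteCategory.congr_hom ((S f).X₃.obj.map_comp (homOfLE h).op (homOfLE h').op) q).symm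

/-- The germs of units. -/
def jA (V : X'.Opens) : (Γ(X₀, f ⁻¹ᵁ V))ˣ → GSec f V := fun a x =>
  Additive.ofMul (Units.map (X₀.presheaf.germ (f ⁻¹ᵁ V) x.1 x.2).hom.toMonoidHom a)

theorem piQ_eq_zero_iff (V : X'.Opens) (u : GSec f V) : piQ f V u = 0 ↔ ∃ a, jA f V a = u := by
  constructor
  · intro h
    obtain ⟨a, ha⟩ := CechLib.exists_of_app_eq_zero (S_shortExact f) V u h
    exact ⟨UnitsSh.unitOfSect a, ha⟩
  · rintro ⟨a, rfl⟩
    exact ConcreteCategory.congr_hom (congrArg (fun t => t.hom.app (op V)) (S f).zero) (UnitsSh.sectOfUnit a)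

theorem Q_ext {V : X'.Opens} {q q' : QSec f V}
    (h : ∀ y ∈ V, ∃ (W : X'.Opens) (hW : W ≤ V), y ∈ W ∧ rQ f hW q = rQ f hW q') : q = q' := by
  choose W hW hy he using h
  exact TopCat.Sheaf.eq_of_locally_eq' ((S f).X₃ : TopCat.Sheaf AddCommGrpCat X'.toTopCat)
    (fun y : V => W y.1 y.2) V (fun y => homOfLE (hW y.1 y.2))
    (fun y hy' => Opens.mem_iSup.mpr ⟨⟨y, hy'⟩, hy y hy'⟩) q q' fun y => he y.1 y.2

theorem Q_glue {ι : Type u} (V : ι → X'.Opens) (hV : ∀ y, ∃ i, y ∈ V i) (q : ∀ i, QSec f (V i))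
    (h : ∀ i j, rQ f (inf_le_left : V i ⊓ V j ≤ V i) (q i) = rQ f (inf_le_right : V i ⊓ V j ≤ V j) (q j)) :
    ∃ g : QSec f ⊤, ∀ i, rQ f le_top g = q i := by
  obtain ⟨g, hg, -⟩ := TopCat.Sheaf.existsUnique_gluing' ((S f).X₃ : TopCat.Sheaf AddCommGrpCat X'.toTopCat)
    V ⊤ (fun i => homOfLE le_top) (fun y _ => Opens.mem_iSup.mpr (hV y)) q h
  exact ⟨g, hg⟩

theorem exists_local_lift {V : X'.Opens} (q : QSec f V) (y : X') (hy : y ∈ V) :
    ∃ (W : X'.Opens) (hW : W ≤ V) (u : GSec f W), y ∈ W ∧ piQ f W u = rQ f hW q := by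
  have hls := (Sheaf.isLocallySurjective_iff_epi' (φ := (S f).g)).mpr (S_shortExact f).epi_g
  obtain ⟨W, hW, ⟨t, ht⟩, hyW⟩ := (TopCat.Presheaf.isLocallySurjective_iff (S f).g.hom).mp hls V q y hy
  exact ⟨W, hW, t, hyW, ht⟩

/-- The first cohomology of the pushed forward units. -/
abbrev H1 : Type u := HU (A f) 1 ⊤

/-- The class of a global section of the cokernel. -/
def cls : QSec f ⊤ →+ H1 f := QCohLib.delta0 (S_shortExact f) ⊤

theorem cls_surjective : Function.Surjective (cls f) := by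
  haveI : TopCat.Sheaf.IsFlasque ((pf f.base).obj (gSh X₀) : TopCat.Sheaf AddCommGrpCat X'.toTopCat) :=
    QCohLib.isFlasque_pf (gSh X₀)
  haveI : Subsingleton (HU (S f).X₂ 1 ⊤) := QCohLib.subsingleton_of_isFlasque 0 ((pf f.base).obj (gSh X₀)) ⊤
  exact QCohLib.delta0_surjective (S_shortExact f) ⊤

theorem cls_eq_zero_iff (q : QSec f ⊤) : cls f q = 0 ↔ ∃ w, piQ f ⊤ w = q :=
  QCohLib.delta0_eq_zero_iff (S_shortExact f) ⊤ q

end PicH1Lib
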