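import Groth.Agent.PicH1Lib.Piles
import Groth.Agent.DevissLib.Stalk
import Groth.Agent.TwistLib.PullGen
import Groth.Agent.FinPicLib.Main
import Groth.Agent.PicTorsLib.Thicken
import Groth.Agent.PicPnLib.Rel
import Groth.Agent.KFlatLib.StalkTensor

/-!
# The class of a line bundle in the cohomology of the units

An invertible module `L` on `X₀` that is trivial over the preimages of an open covering of `X'` gives a class in
`H¹(X', f_* O^×)`, and this class determines it.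
-/

set_option autoImplicit false
set_option linter.style.haveILetI false
universe u

open CategoryTheory CategoryTheory.Limits AlgebraicGeometry TopologicalSpace Opposite
open DevissLib
open AmpleLib (res GenAt GenOn)

noncomputable section

namespace PicH1Lib

variable {X₀ X' : Scheme.{u}} (f : X₀ ⟶ X')

/-- A free generator of a stalk. -/
def SGen (M : X₀.Modules) (x : X₀) (b : (St x).obj M) : Prop :=
  Function.Bijective fun c : X₀.presheaf.stalk x => c • b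

theorem SGen.smul {M : X₀.Modules} {x : X₀} {b : (St x).obj M} (hb : SGen M x b) (a : (X₀.presheaf.stalk x)ˣ) :
    SGen M x (a.1 • b) := by
  have : (fun c : X₀.presheaf.stalk x => c • a.1 • b) = (fun c => c • b) ∘ fun c => c * a.1 :=
    funext fun c => smul_smul c a.1 b
  unfold SGen
  rw [this]
  exact hb.comp a.mulRight.bijective

theorem SGen.exists_unit {M : X₀.Modules} {x : X₀} {b b' : (St x).obj M} (hb : SGen M x b) (hb' : SGen M x b') :
    ∃ a : (X₀.presheaf.stalk x)ˣ, a.1 • b = b' := by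
  obtain ⟨a, ha⟩ := hb.2 b'
  obtain ⟨c, hc⟩ := hb'.2 b
  have h1 : c * a = 1 := hb.1 (show (c * a) • b = (1 : X₀.presheaf.stalk x) • b by
    rw [mul_smul, one_smul]; dsimp only at ha hc; rw [ha, hc])
  exact ⟨(IsUnit.of_mul_eq_one_right c h1).unit, ha⟩

theorem SGen.unit_ext {M : X₀.Modules} {x : X₀} {b : (St x).obj M} (hb : SGen M x b)
    {a a' : (X₀.presheaf.stalk x)ˣ} (h : a.1 • b = a'.1 • b) : a = a' := Units.ext (hb.1 h)

theorem sgen_gm {M : X₀.Modules} {U : X₀.Opens} {t : Γ(M, U)} (ht : GenOn M t) {x : X₀} (hx : x ∈ U) :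
    SGen M x (gm M x hx t) := ht.genAt hx

/-- `L` is trivial over the preimages of an open covering. -/
def LocTriv (L : X₀.Modules) : Prop :=
  ∀ y : X', ∃ (V : X'.Opens) (t : Γ(L, f ⁻¹ᵁ V)), y ∈ V ∧ GenOn L t

variable {L M : X₀.Modules}

/-- Chosen generators of all stalks. -/
abbrev Frame (L : X₀.Modules) : Type u := {e : ∀ x : X₀, (St x).obj L // ∀ x, SGen L x (e x)}

theorem LocTriv.exists_frame (h : LocTriv f L) : Nonempty (Frame L) := by
  choose V t hy ht using h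
  exact ⟨⟨fun x => gm L x (show x ∈ f ⁻¹ᵁ V (f x) from hy (f x)) (t (f x)), fun x => sgen_gm (ht _) _⟩⟩

/-- `u` is the coordinate of `t` in the frame. -/
def IsCoord (e : Frame L) {V : X'.Opens} (t : Γ(L, f ⁻¹ᵁ V)) (u : GSec f V) : Prop :=
  ∀ x : (f ⁻¹ᵁ V : X₀.Opens), (Additive.toMul (u x)).1 • e.1 x.1 = gm L x.1 x.2 t

theorem exists_isCoord (e : Frame L) {V : X'.Opens} {t : Γ(L, f ⁻¹ᵁ V)} (ht : GenOn L t) :
    ∃ u, IsCoord f e t u := by
  choose u hu using fun x : (f ⁻¹ᵁ V : X₀.Opens) => (e.2 x.1).exists_unit (sgen_gm ht x.2)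
  exact ⟨fun x => Additive.ofMul (u x), hu⟩

theorem IsCoord.rG {e : Frame L} {V W : X'.Opens} {t : Γ(L, f ⁻¹ᵁ V)} {u : GSec f V} (hu : IsCoord f e t u)
    (h : W ≤ V) : IsCoord f e (res L (f.preimage_mono h) t) (PicH1Lib.rG f h u) := fun x =>
  (hu ⟨x.1, h x.2⟩).trans (gm_map L (f.preimage_mono h) x.1 x.2 t).symm

theorem IsCoord.piQ_eq {e : Frame L} {V : X'.Opens} {t t' : Γ(L, f ⁻¹ᵁ V)} {u u' : GSec f V}
    (ht : GenOn L t) (ht' : GenOn L t') (hu : IsCoord f e t u) (hu' : IsCoord f e t' u') :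
    piQ f V u = piQ f V u' := by
  obtain ⟨r, hr⟩ := (ht _ le_rfl).2 t'
  dsimp only at hr
  rw [AmpleLib.res_refl] at hr
  have hru := FinPicLib.gen_unit ht ht' hr
  have key : u' = u + jA f V hru.unit := funext fun x => by
    refine Additive.toMul.injective ((e.2 x.1).unit_ext ?_)
    rw [hu' x, ← hr, gm_smul, ← hu x, ← mul_smul]
    exact congrArg (· • e.1 x.1) (mul_comm _ _)
  rw [key, map_add, (piQ_eq_zero_iff f V _).mpr ⟨_, rfl⟩, add_zero]

/-- `q` is the class of the coordinates of local generators. -/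
def IsQ (e : Frame L) (q : QSec f ⊤) : Prop :=
  ∀ (V : X'.Opens) (t : Γ(L, f ⁻¹ᵁ V)) (u : GSec f V), GenOn L t → IsCoord f e t u →
    rQ f le_top q = piQ f V u

theorem isQ_of_cover {ι : Type*} (W : ι → X'.Opens) (hW : ∀ y, ∃ i, y ∈ W i) (t : ∀ i, Γ(L, f ⁻¹ᵁ W i))
    (ht : ∀ i, GenOn L (t i)) (e : Frame L) (u : ∀ i, GSec f (W i)) (hu : ∀ i, IsCoord f e (t i) (u i))
    {q : QSec f ⊤} (hq : ∀ i, rQ f le_top q = piQ f (W i) (u i)) : IsQ f e q := by
  intro V s v hs hv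
  refine Q_ext f fun y hy => ?_
  obtain ⟨i, hi⟩ := hW y
  refine ⟨W i ⊓ V, inf_le_right, ⟨hi, hy⟩, ?_⟩
  rw [rQ_rQ, ← rQ_rQ f (le_top : W i ≤ ⊤) inf_le_left, hq i, ← piQ_rG, ← piQ_rG]
  exact IsCoord.piQ_eq f ((ht i).res _) (hs.res _) ((hu i).rG f _) (hv.rG f _)

theorem exists_isQ (h : LocTriv f L) (e : Frame L) : ∃ q, IsQ f e q := by
  choose W t hy ht using h
  choose u hu using fun y => exists_isCoord f e (ht y)
  obtain ⟨q, hq⟩ := Q_glue f W (fun y => ⟨y, hy y⟩) (fun y => piQ f (W y) (u y)) fun i j => by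
    rw [← piQ_rG, ← piQ_rG]
    exact IsCoord.piQ_eq f ((ht i).res _) ((ht j).res _) ((hu i).rG f _) ((hu j).rG f _)
  exact ⟨q, isQ_of_cover f W (fun y => ⟨y, hy y⟩) t ht e u hu hq⟩

/-- `c` is the class of `L`. -/
def Rel (L : X₀.Modules) (c : H1 f) : Prop :=
  LocTriv f L ∧ ∃ (e : Frame L) (q : QSec f ⊤), IsQ f e q ∧ cls f q = c

theorem exists_rel (h : LocTriv f L) : ∃ c, Rel f L c := by
  obtain ⟨e⟩ := h.exists_frame
  obtain ⟨q, hq⟩ := exists_isQ f h e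
  exact ⟨_, h, e, q, hq, rfl⟩

theorem Rel.unique {c c' : H1 f} (h : Rel f L c) (h' : Rel f L c') : c = c' := by
  obtain ⟨hL, e, q, hq, rfl⟩ := h
  obtain ⟨-, e', q', hq', rfl⟩ := h'
  choose a ha using fun x : X₀ => (e'.2 x).exists_unit (e.2 x)
  let w : GSec f ⊤ := fun x => Additive.ofMul (a x.1)
  have hd : q' = q + piQ f ⊤ w := Q_ext f fun y _ => by
    obtain ⟨V, t, hyV, ht⟩ := hL y
    obtain ⟨v, hv⟩ := exists_isCoord f e ht
    refine ⟨V, le_top, hyV, ?_⟩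
    rw [rQ_add, hq V t v ht hv, ← piQ_rG, ← map_add]
    refine hq' V t _ ht fun x => ?_
    rw [← hv x]
    refine Eq.trans ?_ (congrArg ((Additive.toMul (v x)).1 • ·) (ha x.1))
    rw [← mul_smul]
    rfl
  rw [hd, map_add, (cls_eq_zero_iff f _).mpr ⟨w, rfl⟩, add_zero]

theorem LocTriv.of_iso (φ : L ≅ M) (h : LocTriv f L) : LocTriv f M := fun y => by
  obtain ⟨V, t, hy, ht⟩ := h y
  exact ⟨V, φ.hom.app _ t, hy, TwistLib.genOn_of_genAt fun x hx =>
    (TwistLib.genAt_app_iso φ t hx).mpr (ht.genAt hx)⟩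

theorem sgen_map_iso (φ : L ≅ M) {x : X₀} {b : (St x).obj L} (hb : SGen L x b) :
    SGen M x (((St x).map φ.hom).hom b) := by
  have e : (fun c : X₀.presheaf.stalk x => c • ((St x).map φ.hom).hom b) =
      ((St x).map φ.hom).hom ∘ fun c => c • b := funext fun c => (((St x).map φ.hom).hom.map_smul c b).symm
  unfold SGen
  rw [e]
  exact (ConcreteCategory.bijective_of_isIso ((St x).map φ.hom)).comp hb

theorem Rel.of_iso {c : H1 f} (h : Rel f L c) (φ : L ≅ M) : Rel f M c := by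
  obtain ⟨hL, e, q, hq, rfl⟩ := h
  let e' : Frame M := ⟨fun x => ((St x).map φ.hom).hom (e.1 x), fun x => sgen_map_iso φ (e.2 x)⟩
  choose V t hy ht using hL
  choose u hu using fun y => exists_isCoord f e (ht y)
  refine ⟨LocTriv.of_iso f φ (fun y => ⟨V y, t y, hy y, ht y⟩), e', q,
    isQ_of_cover f V (fun y => ⟨y, hy y⟩) (fun y => φ.hom.app _ (t y))
      (fun y => TwistLib.genOn_of_genAt fun x hx => (TwistLib.genAt_app_iso φ (t y) hx).mpr ((ht y).genAt hx))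
      e' u (fun y x => ?_) (fun y => hq _ _ _ (ht y) (hu y)), rfl⟩
  rw [← gm_app φ.hom x.1 x.2, ← hu y x, map_smul]

theorem one_genOn {V : X'.Opens} : GenOn (Coh.structureModule X₀) (1 : Γ(X₀, f ⁻¹ᵁ V)) :=
  PicTorsLib.genOn_of_isUnit isUnit_one

/-- The structure module has class zero. -/
theorem rel_structureModule : Rel f (Coh.structureModule X₀) 0 := by
  let e : Frame (Coh.structureModule X₀) :=
    ⟨fun x => gm (Coh.structureModule X₀) x (show x ∈ f ⁻¹ᵁ ⊤ from trivial) (1 : Γ(X₀, f ⁻¹ᵁ ⊤)),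
      fun x => sgen_gm (one_genOn f) _⟩
  refine ⟨fun y => ⟨⊤, (1 : Γ(X₀, f ⁻¹ᵁ ⊤)), trivial, one_genOn f⟩, e, 0,
    isQ_of_cover f (fun _ : PUnit.{1} => (⊤ : X'.Opens)) (fun y => ⟨⟨⟩, trivial⟩)
      (fun _ => (1 : Γ(X₀, f ⁻¹ᵁ ⊤))) (fun _ => one_genOn f) e (fun _ => 0) (fun _ x => one_smul _ _)
      (fun _ => ?_), map_zero _⟩
  rw [rQ_zero, map_zero]

/-- A module with class zero is trivial. -/
theorem Rel.iso_structureModule (h : Rel f L 0) : Nonempty (L ≅ Coh.structureModule X₀) := by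
  obtain ⟨hL, e, q, hq, hc⟩ := h
  obtain ⟨w, rfl⟩ := (cls_eq_zero_iff f q).mp hc
  have hloc : ∀ y : X', ∃ (V : X'.Opens) (s : Γ(L, f ⁻¹ᵁ V)), y ∈ V ∧ ∀ (x : X₀) (hx : x ∈ f ⁻¹ᵁ V),
      gm L x hx s = (Additive.toMul (w ⟨x, trivial⟩)).1 • e.1 x := by
    intro y
    obtain ⟨V, t, hy, ht⟩ := hL y
    obtain ⟨v, hv⟩ := exists_isCoord f e ht
    have h1 : piQ f V (PicH1Lib.rG f (le_top : V ≤ ⊤) w - v) = 0 := by
      rw [map_sub, piQ_rG, hq V t v ht hv, sub_self]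
    obtain ⟨a, ha⟩ := (piQ_eq_zero_iff f V _).mp h1
    refine ⟨V, (a : Γ(X₀, f ⁻¹ᵁ V)) • t, hy, fun x hx => ?_⟩
    have h2 := congrArg Additive.toMul ((eq_add_of_sub_eq (congr_fun ha ⟨x, hx⟩).symm) :
      w ⟨x, trivial⟩ = jA f V a ⟨x, hx⟩ + v ⟨x, hx⟩)
    rw [gm_smul, ← hv ⟨x, hx⟩, ← mul_smul, h2]
    rfl
  choose V s hy hs using hloc
  obtain ⟨σ, hσ, -⟩ := TopCat.Sheaf.existsUnique_gluing'
    (⟨L.presheaf, L.isSheaf⟩ : TopCat.Sheaf AddCommGrpCat X₀.toTopCat) (fun y => f ⁻¹ᵁ V y) ⊤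
    (fun y => homOfLE le_top) (fun x _ => Opens.mem_iSup.mpr ⟨f x, hy (f x)⟩) s (fun i j => by
      refine TwistLib.mod_ext L fun x hx => ?_
      exact (gm_map L (inf_le_left : f ⁻¹ᵁ V i ⊓ f ⁻¹ᵁ V j ≤ _) x hx (s i)).trans
        ((hs i x hx.1).trans ((hs j x hx.2).symm.trans
          (gm_map L (inf_le_right : f ⁻¹ᵁ V i ⊓ f ⁻¹ᵁ V j ≤ _) x hx (s j)).symm)))
  refine PicPnLib.nonempty_iso_of_genAt σ fun x => ?_
  have hx : x ∈ f ⁻¹ᵁ V (f x) := hy (f x)
  have h3 : gm L x (show x ∈ (⊤ : X₀.Opens) from trivial) σ = (Additive.toMul (w ⟨x, trivial⟩)).1 • e.1 x := by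
    rw [← hs (f x) x hx, ← hσ (f x)]
    exact (gm_map L (le_top : f ⁻¹ᵁ V (f x) ≤ ⊤) x hx σ).symm
  have h4 := (e.2 x).smul (Additive.toMul (w ⟨x, trivial⟩))
  rw [← h3] at h4
  exact h4

end PicH1Lib
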