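import Groth.Agent.PicH1Lib.Cocycle
import Groth.Agent.HilbPolyLib.Twist

/-!
# The class of a tensor product, and the classification
-/

set_option autoImplicit false
set_option linter.style.haveILetI false
universe u

open CategoryTheory CategoryTheory.Limits AlgebraicGeometry TopologicalSpace Opposite
open DevissLib
open AmpleLib (res GenAt GenOn shT)

noncomputable section

namespace PicH1Lib

variable {X₀ X' : Scheme.{u}} {f : X₀ ⟶ X'} {L M : X₀.Modules}

/-- The product of two germs in the stalk of the tensor product. -/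
def stT (L M : X₀.Modules) (x : X₀) : (St x).obj L →ₗ[X₀.presheaf.stalk x] (St x).obj M →ₗ[X₀.presheaf.stalk x]
    (St x).obj (CohB1.tensorMod L M) :=
  (TensorProduct.mk (X₀.presheaf.stalk x) _ _).compr₂ (KFlatLib.stalkTensorLin L M x)

theorem stT_gm {U : X₀.Opens} {x : X₀} (hx : x ∈ U) (m : Γ(L, U)) (n : Γ(M, U)) :
    stT L M x (gm L x hx m) (gm M x hx n) = gm (CohB1.tensorMod L M) x hx (shT m n) :=
  KFlatLib.stalkTensorLin_germ L M x hx m n

theorem stT_smul {x : X₀} (c d : X₀.presheaf.stalk x) (a : (St x).obj L) (b : (St x).obj M) :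
    stT L M x (c • a) (d • b) = (c * d) • stT L M x a b := by
  rw [map_smul, map_smul, LinearMap.smul_apply, smul_smul, mul_comm]

/-- The class of a tensor product is the sum of the classes. -/
theorem Rel.tensor {c d : H1 f} (h : Rel f L c) (h' : Rel f M d) :
    Rel f (CohB1.tensorMod L M) (c + d) := by
  obtain ⟨hL, e, q, hq, rfl⟩ := h
  obtain ⟨hM, e', q', hq', rfl⟩ := h'
  have hcov : ∀ y : X', ∃ (V : X'.Opens) (t : Γ(L, f ⁻¹ᵁ V)) (t' : Γ(M, f ⁻¹ᵁ V)),
      y ∈ V ∧ GenOn L t ∧ GenOn M t' := fun y => by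
    obtain ⟨V, t, hy, ht⟩ := hL y
    obtain ⟨V', t', hy', ht'⟩ := hM y
    exact ⟨V ⊓ V', res L (f.preimage_mono (inf_le_left : V ⊓ V' ≤ V)) t,
      res M (f.preimage_mono (inf_le_right : V ⊓ V' ≤ V')) t', ⟨hy, hy'⟩, ht.res _, ht'.res _⟩
  choose V t t' hy ht ht' using hcov
  choose u hu using fun y => exists_isCoord f e (ht y)
  choose u' hu' using fun y => exists_isCoord f e' (ht' y)
  have hgen : ∀ y, GenOn (CohB1.tensorMod L M) (shT (t y) (t' y)) := fun y =>
    TwistLib.genOn_of_genAt fun x hx => ((ht y).genAt hx).tensor ((ht' y).genAt hx)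
  have he : ∀ x : X₀, SGen (CohB1.tensorMod L M) x (stT L M x (e.1 x) (e'.1 x)) := fun x => by
    have h1 := (sgen_gm (hgen (f x)) (x := x) (hy (f x))).smul
      (Additive.toMul (u (f x) ⟨x, hy (f x)⟩) * Additive.toMul (u' (f x) ⟨x, hy (f x)⟩))⁻¹
    rw [← stT_gm, ← hu (f x) ⟨x, hy (f x)⟩, ← hu' (f x) ⟨x, hy (f x)⟩, stT_smul, smul_smul,
      ← Units.val_mul, ← Units.val_mul, inv_mul_cancel, Units.val_one, one_smul] at h1
    exact h1
  refine ⟨fun y => ⟨V y, shT (t y) (t' y), hy y, hgen y⟩, ⟨_, he⟩, q + q',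
    isQ_of_cover f V (fun y => ⟨y, hy y⟩) (fun y => shT (t y) (t' y)) hgen ⟨_, he⟩
      (fun y => u y + u' y) (fun y x => ?_) (fun y => ?_), map_add _ _ _⟩
  · show (Additive.toMul (u y x + u' y x)).1 • stT L M x.1 (e.1 x.1) (e'.1 x.1) = _
    rw [← stT_gm, ← hu y x, ← hu' y x, stT_smul]
    rfl
  · rw [rQ_add, map_add, hq _ _ _ (ht y) (hu y), hq' _ _ _ (ht' y) (hu' y)]

/-- Modules with the same class are isomorphic. -/
theorem Rel.iso_of_eq {c : H1 f} (h : Rel f L c) (h' : Rel f M c) : Nonempty (L ≅ M) := by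
  obtain ⟨N, hN⟩ := exists_module_rel f (-c)
  have h1 := h.tensor hN
  have h2 := hN.tensor h'
  rw [add_neg_cancel] at h1
  rw [neg_add_cancel] at h2
  obtain ⟨a⟩ := h1.iso_structureModule
  obtain ⟨b⟩ := h2.iso_structureModule
  exact ⟨(HilbPolyLib.unitLeft L).symm ≪≫ HilbPolyLib.swapIso _ _ ≪≫ HilbPolyLib.congrRight L b.symm ≪≫
    (HilbPolyLib.assocIso L N M).symm ≪≫ HilbPolyLib.congrLeft a M ≪≫ HilbPolyLib.unitLeft M⟩

theorem Rel.nonempty_iso_iff {c d : H1 f} (h : Rel f L c) (h' : Rel f M d) : Nonempty (L ≅ M) ↔ c = d :=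
  ⟨fun ⟨φ⟩ => (h.of_iso f φ).unique f h', fun e => h.iso_of_eq (e ▸ h')⟩

theorem Rel.isInvertible {c : H1 f} (h : Rel f L c) : PicF.IsInvertible L := by
  choose V t hy ht using h.1
  exact TwistLib.isInvertible_of_genOn (fun y => f ⁻¹ᵁ V y) (fun x => ⟨f x, hy (f x)⟩) t ht

end PicH1Lib
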